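import Cfsg.Agent.SmallSimple.SixThousand.HandA
import Cfsg.Agent.SmallSimple.RealPrime.Basic
import Mathlib.GroupTheory.SpecificGroups.Dihedral

/-!
# The order 1512

The involutions inverting a generator `g` of a Sylow 7-subgroup have centralisers of order 24, so
the class multiplication formula prescribes a sum over the characters not vanishing at `g`.  With
column orthogonality this has no solution.
-/

set_option autoImplicit false
set_option linter.style.haveILetI false

namespace CfsgLib.ThirtySixForty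

open Finset CfsgLib.SylowCheck CfsgLib.SixThousand CfsgLib.FixedPoints CfsgLib.FiftyForty CfsgLib.Char
open scoped ComplexConjugate commutatorElement

/-- The sign of a dihedral group. -/
noncomputable def dihedralSign (n : ℕ) : DihedralGroup n →* ℂˣ where
  toFun q := match q with
    | .r _ => 1
    | .sr _ => -1
  map_one' := rfl
  map_mul' a b := by
    rcases a with i | i <;> rcases b with j | j <;> simp

/-- The map of a dihedral group given by an element and an inverting involution. -/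
noncomputable def dihedralHom {G : Type*} [Group G] [Finite G] {p : ℕ} [Fact p.Prime] {g y : G} (hg : orderOf g = p)
    (hy : y * y = 1) (hyg : y * g * y⁻¹ = g⁻¹) : DihedralGroup p →* G where
  toFun q := match q with
    | .r i => g ^ i.val
    | .sr i => y * g ^ i.val
  map_one' := by
    rw [DihedralGroup.one_def]
    simp
  map_mul' a b := by
    have hneg : ∀ i : ZMod p, g ^ (-i).val = (g ^ i.val)⁻¹ := fun i => by
      rw [eq_inv_iff_mul_eq_one, ← ColumnData.pow_val_add hg, neg_add_cancel, ZMod.val_zero, pow_zero]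
    have hconj : ∀ i : ZMod p, g ^ i.val * y = y * (g ^ i.val)⁻¹ := fun i => by
      have h := conj_pow (a := y) (b := g) (i := i.val)
      rw [hyg, inv_pow] at h
      rw [h]
      calc g ^ i.val * y = y⁻¹ * (y * g ^ i.val * y⁻¹) * (y * y) := by group
        _ = y * (y * g ^ i.val * y⁻¹) := by rw [inv_eq_of_mul_eq_one_right hy, hy, mul_one]
    rcases a with i | i <;> rcases b with j | j
    · rw [DihedralGroup.r_mul_r]
      exact ColumnData.pow_val_add hg i j
    · rw [DihedralGroup.r_mul_sr]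
      show y * g ^ (j - i).val = g ^ i.val * (y * g ^ j.val)
      rw [← mul_assoc, hconj, mul_assoc, ← hneg, ← ColumnData.pow_val_add hg, neg_add_eq_sub]
    · rw [DihedralGroup.sr_mul_r]
      show y * g ^ (i + j).val = y * g ^ i.val * g ^ j.val
      rw [mul_assoc, ← ColumnData.pow_val_add hg]
    · rw [DihedralGroup.sr_mul_sr]
      show g ^ (j - i).val = y * g ^ i.val * (y * g ^ j.val)
      rw [mul_assoc, ← mul_assoc (g ^ i.val), hconj, ← mul_assoc, ← mul_assoc, hy, one_mul, ← hneg,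
        ← ColumnData.pow_val_add hg, neg_add_eq_sub]

/-- The value at an inverting involution is bounded by the multiplicity of the eigenvalue one. -/
theorem abs_le_count {G : Type*} [Group G] [Finite G] {p : ℕ} [hp : Fact p.Prime] {g y : G}
    (hg : orderOf g = p) (hy : y * y = 1) (hyg : y * g * y⁻¹ = g⁻¹) {χ : G → ℂ}
    (hχ : Cfsg.IsCharacter G χ) (hyc : ∀ i : ZMod p, χ (y * g ^ i.val) = χ y) {c : ZMod p → ℕ}
    (hc : ∀ j : ZMod p, χ (g ^ j.val) = ∑ b, (c b : ℂ) * ZMod.stdAddChar (b * j)) {m : ℤ} (hm : χ y = m) :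
    -(c 0 : ℤ) ≤ m ∧ m ≤ c 0 := by
  classical
  set f := dihedralHom hg hy hyg
  have hψ := IsCharacter.comp hχ f
  obtain ⟨a, ha⟩ := IsCharacter.exists_classInner_eq_natCast' hψ (isCharacter_ofHom (1 : DihedralGroup p →* ℂˣ))
  obtain ⟨b, hb⟩ := IsCharacter.exists_classInner_eq_natCast' hψ (isCharacter_ofHom (dihedralSign p))
  have hr : ∑ i : ZMod p, χ (g ^ i.val) = (p : ℂ) * c 0 := by
    rw [ColumnData.count_formula hg hc 0]
    simp
  have hs : ∑ i : ZMod p, χ (y * g ^ i.val) = (p : ℂ) * m := by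
    rw [sum_congr rfl fun i _ => hyc i, sum_const, card_univ, ZMod.card, nsmul_eq_mul, hm]
  have hp0 : (p : ℂ) ≠ 0 := Nat.cast_ne_zero.2 hp.out.ne_zero
  have hsplit : ∀ F : DihedralGroup p → ℂ, ∑ q, F q = ∑ i : ZMod p, F (.r i) + ∑ i : ZMod p, F (.sr i) := fun F => by
    rw [← DihedralGroup.equivSum.symm.sum_comp, Fintype.sum_sum_type]
    rfl
  simp only [Cfsg.classInner, hsplit, DihedralGroup.nat_card] at ha hb
  have ha' : ((2 * a : ℕ) : ℂ) = (((c 0 : ℤ) + m : ℤ) : ℂ) := by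
    push_cast
    rw [← ha]
    simp only [MonoidHom.one_apply, Units.val_one, map_one, mul_one]
    rw [show ∑ i : ZMod p, χ (f (DihedralGroup.r i)) = (p : ℂ) * c 0 from hr,
      show ∑ i : ZMod p, χ (f (DihedralGroup.sr i)) = (p : ℂ) * m from hs]
    field_simp
    push_cast
    ring
  have hb' : ((2 * b : ℕ) : ℂ) = (((c 0 : ℤ) - m : ℤ) : ℂ) := by
    push_cast
    rw [← hb]
    simp only [show ∀ i : ZMod p, dihedralSign p (DihedralGroup.r i) = 1 from fun _ => rfl,
      show ∀ i : ZMod p, dihedralSign p (DihedralGroup.sr i) = -1 from fun _ => rfl, Units.val_one,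
      Units.val_neg, map_one, map_neg, mul_one, mul_neg, sum_neg_distrib]
    rw [show ∑ i : ZMod p, χ (f (DihedralGroup.r i)) = (p : ℂ) * c 0 from hr,
      show ∑ i : ZMod p, χ (f (DihedralGroup.sr i)) = (p : ℂ) * m from hs]
    field_simp
    push_cast
    ring
  have ha'' : ((2 * a : ℕ) : ℤ) = (c 0 : ℤ) + m := by exact_mod_cast ha'
  have hb'' : ((2 * b : ℕ) : ℤ) = (c 0 : ℤ) - m := by exact_mod_cast hb'
  omega

/-- The possible degree, value at `g` and value at the involution of a character. -/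
def kinds : List (ℤ × ℤ × ℤ) :=
  [(-2, 12, 0), (-1, 27, -1), (-1, 27, 3), (1, 8, 0), (1, 36, -4), (1, 36, 0), (1, 36, 4), (2, 9, -3), (2, 9, 1)]

/-- The list of kinds is complete. -/
def kindsCheck : Bool :=
  (List.range 39).all fun a => (List.range 7).all fun b => (List.range (2 * a + 1)).all fun i =>
    !(decide (0 < b) && 1512 % (a + 6 * b) == 0 && decide ((a + 6 * b) ^ 2 ≤ 1511) &&
      decide (((a : ℤ) - b) * ((a : ℤ) - b) ≤ 6) && a != b &&
      decide ((((a + 6 * b : ℕ) : ℤ) - ((i : ℤ) - a)) % 4 = 0)) ||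
      kinds.contains ((a : ℤ) - b, ((a + 6 * b : ℕ) : ℤ), (i : ℤ) - a)

theorem kindsCheck_eq : kindsCheck = true := by decide +kernel

theorem mem_kinds (a : ℕ) (ha : a ∈ List.range 39) (b : ℕ) (hb : b ∈ List.range 7) (h0 : 0 < b)
    (h1 : 1512 % (a + 6 * b) = 0) (h2 : (a + 6 * b) ^ 2 ≤ 1511)
    (h3 : ((a : ℤ) - b) * ((a : ℤ) - b) ≤ 6) (h4 : a ≠ b) (i : ℕ) (hi : i ∈ List.range (2 * a + 1))
    (h5 : (((a + 6 * b : ℕ) : ℤ) - ((i : ℤ) - a)) % 4 = 0) :
    ((a : ℤ) - b, ((a + 6 * b : ℕ) : ℤ), (i : ℤ) - a) ∈ kinds := by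
  have h := List.all_eq_true.1 (List.all_eq_true.1 (List.all_eq_true.1 kindsCheck_eq a ha) b hb) i hi
  simpa only [h0, h1, h2, h3, h4, h5, decide_true, bne_iff_ne, beq_self_eq_true, Bool.and_true, Bool.true_and,
    Bool.not_true, Bool.false_or, List.contains_eq_mem, decide_eq_true_eq, ne_eq, not_false_eq_true,
    (bne_iff_ne).2 h4] using h

/-- Nonnegative combinations of the admissible kinds. -/
theorem no_kinds (k : Fin 9 → ℕ)
    (h1 : ∑ i, (k i : ℤ) * ((kinds.get i).1 * (kinds.get i).1) = 6)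
    (h2 : ∑ i, (k i : ℤ) * ((kinds.get i).1 * (kinds.get i).2.1) = -1)
    (h3 : ∑ i, (k i : ℤ) * ((kinds.get i).1 * (kinds.get i).2.2) = -1)
    (h4 : ∑ i, (k i : ℤ) * ((kinds.get i).2.2 * (kinds.get i).2.2 * (kinds.get i).1 * (216 / (kinds.get i).2.1)) = 360) :
    False := by
  simp [Fin.sum_univ_succ, kinds] at h1 h2 h3 h4
  omega

variable {G : Type*} [Group G] [Finite G] [IsSimpleGroup G]

theorem false_of_fifteen_twelve (hG : ¬ IsMulCommutative G) (hn : Nat.card G = 1512)
    (hr : Real G (7, 36, 1)) : False := by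
  classical
  haveI : Fact (Nat.Prime 7) := ⟨by norm_num⟩
  haveI : Fact (Nat.Prime 2) := ⟨Nat.prime_two⟩
  letI : Fintype G := Fintype.ofFinite G
  obtain ⟨g, -, hsq, hg, hC, hN, hk⟩ := exists_generator hr hn (m := 42) rfl
  set N := Subgroup.normalizer ((Subgroup.zpowers g : Subgroup G) : Set G)
  set C := Subgroup.centralizer ({g} : Set G)
  have hCz : Subgroup.zpowers g = C := Subgroup.eq_of_le_of_card_ge
    (Subgroup.zpowers_le.2 (Subgroup.mem_centralizer_singleton_iff.2 rfl))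
    (by rw [hC, Nat.card_zpowers, hg])
  have hall : ∀ r : ZMod 7, r ≠ 0 → ∃ h : G, h * g * h⁻¹ = g ^ r.val := fun r hr0 =>
    exists_conj_pow (c := 1) (e := 6) hg hC hN (by decide +kernel +revert) (by
      have key : ∀ r : ZMod 7, r ≠ 0 → r ^ 6 = 1 := by decide +kernel +revert
      exact key r hr0)
  obtain ⟨y', hy'⟩ := exists_prime_orderOf_dvd_card' (G := N) 2 (by rw [hN]; norm_num)
  set y : G := (y' : G)
  have hy : orderOf y = 2 := (Subgroup.orderOf_coe y').trans hy'
  have hy2 : y * y = 1 := by rw [← sq, ← hy, pow_orderOf_eq_one]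
  have hy1 : y ≠ 1 := fun h => by rw [h, orderOf_one] at hy; omega
  have hcentral : ∀ u : G, u * u = 1 → u * g * u⁻¹ = g → u = 1 := fun u hu hug => by
    have h1 : orderOf u ∣ 7 := by
      have := Subgroup.orderOf_dvd_natCard C (Subgroup.mem_centralizer_singleton_iff.2 (mul_inv_eq_iff_eq_mul.1 hug))
      rwa [hC] at this
    have h2 : orderOf u ∣ 2 := orderOf_dvd_of_pow_eq_one (by rw [sq, hu])
    exact orderOf_eq_one_iff.1 (Nat.eq_one_of_dvd_one ((show Nat.gcd 2 7 = 1 from rfl) ▸ Nat.dvd_gcd h2 h1))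
  have hinv : ∀ u : G, u * u = 1 → u ≠ 1 → u ∈ N → u * g * u⁻¹ = g⁻¹ := fun u hu hu1 huN => by
    have hg' : g ^ 7 = 1 := by rw [← hg, pow_orderOf_eq_one]
    obtain ⟨j, hjlt, hj⟩ := Finset.mem_image.1 ((mem_zpowers_iff_mem_range_orderOf).mp
      ((Subgroup.mem_normalizer_iff.1 huN g).1 (Subgroup.mem_zpowers g)))
    rw [Finset.mem_range, hg] at hjlt
    have h1 : g ^ (j * j) = g ^ 1 := by
      rw [pow_one, pow_mul, hj, conj_pow, hj, show u * (u * g * u⁻¹) * u⁻¹ = (u * u) * g * (u * u)⁻¹ by group,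
        hu, one_mul, inv_one, mul_one]
    rw [pow_inj_mod, hg] at h1
    have : j = 1 ∨ j = 6 := by interval_cases j <;> omega
    rcases this with rfl | rfl
    · rw [pow_one] at hj
      exact absurd (hcentral u hu hj.symm) hu1
    · rw [← hj, eq_inv_iff_mul_eq_one, ← pow_succ, hg']
  have hyg := hinv y hy2 hy1 y'.2
  set f := dihedralHom hg hy2 hyg
  have hyconj : ∀ i : ZMod 7, IsConj y (y * g ^ i.val) := fun i => by
    have h2 : (2 : ZMod 7) * 4 = 1 := rfl
    have hy0 : f (.sr 0) = y := by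
      show y * g ^ (0 : ZMod 7).val = y
      rw [ZMod.val_zero, pow_zero, mul_one]
    have hyi : f (.sr i) = y * g ^ i.val := rfl
    refine isConj_iff.2 ⟨f (.r (-(4 * i))), ?_⟩
    rw [← hyi, ← hy0, ← map_inv, ← map_mul, ← map_mul, DihedralGroup.inv_r, DihedralGroup.r_mul_sr,
      DihedralGroup.sr_mul_r, show (0 : ZMod 7) - -(4 * i) + -(-(4 * i)) = 2 * 4 * i by ring, h2, one_mul]
  have hline : ∀ u : G, u * u = 1 → u * g * u⁻¹ = g⁻¹ → ∃ i : ZMod 7, u = y * g ^ i.val := fun u hu hug => by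
    have hmem : y * u ∈ C := by
      rw [Subgroup.mem_centralizer_singleton_iff, ← mul_inv_eq_iff_eq_mul]
      calc y * u * g * (y * u)⁻¹ = y * (u * g * u⁻¹) * y⁻¹ := by group
        _ = g := by rw [hug, ← conj_inv, hyg, inv_inv]
    rw [← hCz] at hmem
    obtain ⟨j, hjlt, hj⟩ := Finset.mem_image.1 ((mem_zpowers_iff_mem_range_orderOf).mp hmem)
    rw [Finset.mem_range, hg] at hjlt
    refine ⟨(j : ZMod 7), ?_⟩
    rw [ZMod.val_natCast, Nat.mod_eq_of_lt hjlt, hj, ← mul_assoc, hy2, one_mul]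
  have hgN : ∀ i : ZMod 7, y * g ^ i.val ∈ N := fun i =>
    N.mul_mem y'.2 (pow_mem (centralizer_le g (Subgroup.mem_centralizer_singleton_iff.2 rfl)) _)
  have hginj : ∀ i i' : ZMod 7, g ^ i.val = g ^ i'.val → i = i' := fun i i' h => by
    rw [pow_inj_mod, hg, Nat.mod_eq_of_lt (ZMod.val_lt i), Nat.mod_eq_of_lt (ZMod.val_lt i')] at h
    exact ZMod.val_injective 7 h
  -- the centraliser of `y`
  have hm7 : Nat.card {u : G // IsConj y u ∧ u ∈ N} = 7 := by
    refine Eq.trans (Nat.card_eq_of_bijective (fun i : ZMod 7 => (⟨y * g ^ i.val, hyconj i, hgN i⟩ :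
      {u : G // IsConj y u ∧ u ∈ N})) ⟨fun i i' h => hginj i i' (mul_left_cancel (congrArg Subtype.val h)), ?_⟩).symm
      (Nat.card_zmod 7)
    rintro ⟨u, hu, huN⟩
    obtain ⟨a, rfl⟩ := isConj_iff.1 hu
    have hu2 : a * y * a⁻¹ * (a * y * a⁻¹) = 1 := by rw [conj_mul, hy2, mul_one, mul_inv_cancel]
    have hu1 : a * y * a⁻¹ ≠ 1 := fun h => hy1 (by rwa [mul_inv_eq_one, mul_eq_left] at h)
    obtain ⟨i, hi⟩ := hline _ hu2 (hinv _ hu2 hu1 huN)
    exact ⟨i, Subtype.ext hi.symm⟩
  have hbase : y • ((1 : G) : G ⧸ N) = ((1 : G) : G ⧸ N) := by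
    rw [MulAction.Quotient.smul_coe, QuotientGroup.eq, smul_eq_mul, mul_one, mul_one, N.inv_mem_iff]
    exact y'.2
  have hle : 7 * (Nat.card {c : G ⧸ N // y • c = c} - 1) ≤ Nat.card (G ⧸ N) - 1 :=
    card_fixed_inverting (by norm_num) hsq hg le_rfl hyg hbase
  obtain ⟨j, hj⟩ := involution_parity hG (v := y) (by rw [sq, hy2]) (G ⧸ N)
  rw [hk] at hle hj
  haveI : Nonempty {c : G ⧸ N // y • c = c} := ⟨⟨_, hbase⟩⟩
  have hpos : 0 < Nat.card {c : G ⧸ N // y • c = c} := Nat.card_pos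
  have hF : Nat.card {c : G ⧸ N // y • c = c} = 4 := by omega
  have hcount := fixed_mul_card y N
  rw [hF, hN, hm7] at hcount
  have hK : Nat.card {x : G // IsConj y x} = 63 := by
    have h := card_conj_class_mul_card_centralizer y
    rw [hn, show Nat.card (Subgroup.centralizer ({y} : Set G)) = 24 by omega] at h
    omega
  -- the pairs with product `g`
  have hpairs : Nat.card {q : G × G // IsConj y q.1 ∧ IsConj y q.2 ∧ q.1 * q.2 = g} = 7 := by
    have hyy : ∀ i : ZMod 7, (y * g ^ i.val) * (y * g ^ (i + 1).val) = g := fun i => by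
      show f (.sr i) * f (.sr (i + 1)) = g
      rw [← map_mul, DihedralGroup.sr_mul_sr, add_sub_cancel_left]
      show g ^ (1 : ZMod 7).val = g
      rw [ZMod.val_one, pow_one]
    refine Eq.trans (Nat.card_eq_of_bijective (fun i : ZMod 7 =>
      (⟨(y * g ^ i.val, y * g ^ (i + 1).val), hyconj i, hyconj _, hyy i⟩ :
        {q : G × G // IsConj y q.1 ∧ IsConj y q.2 ∧ q.1 * q.2 = g}))
      ⟨fun i i' h => hginj i i' (mul_left_cancel (congrArg (fun q => q.1.1) h)), ?_⟩).symm (Nat.card_zmod 7)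
    rintro ⟨⟨u, v⟩, hu, hv, huv⟩
    simp only at hu hv huv
    have hinvol : ∀ x, IsConj y x → x * x = 1 := fun x hx => by
      obtain ⟨a, rfl⟩ := isConj_iff.1 hx
      rw [conj_mul, hy2, mul_one, mul_inv_cancel]
    have h1 : u * g * u⁻¹ = g⁻¹ := by
      rw [← huv, mul_inv_rev, inv_eq_of_mul_eq_one_right (hinvol u hu),
        inv_eq_of_mul_eq_one_right (hinvol v hv), ← mul_assoc, hinvol u hu, one_mul]
    obtain ⟨i, hi⟩ := hline u (hinvol u hu) h1
    refine ⟨i, Subtype.ext (Prod.ext hi.symm (mul_left_cancel (a := u) ?_))⟩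
    show u * (y * g ^ (i + 1).val) = u * v
    rw [huv, hi, hyy]
  -- the data of each character
  have hperf : commutator G = ⊤ := by
    rcases IsSimpleGroup.eq_bot_or_eq_top_of_normal (commutator G) inferInstance with h | h
    · refine absurd ⟨⟨fun a b => ?_⟩⟩ hG
      have h2 : ⁅a, b⁆ ∈ commutator G := by
        rw [commutator_def]
        exact Subgroup.commutator_mem_commutator (Subgroup.mem_top a) (Subgroup.mem_top b)
      rwa [h, Subgroup.mem_bot, commutatorElement_eq_one_iff_mul_comm] at h2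
    · exact h
  have hvals : ∀ χ ∈ irrFinset G, ∃ (d v m : ℤ), χ 1 = d ∧ χ g = v ∧ χ y = m ∧
      (χ ≠ (fun _ => 1) → v * v ≤ 6 → v ≠ 0 → d * d ≤ 1511 → (v, d, m) ∈ kinds) := by
    intro χ hχ
    have hχi := mem_irrFinset.1 hχ
    have hχc := IsIrrCharacter.isCharacter hχi
    have hcls := IsCharacter.isClassFunction hχc
    obtain ⟨d, hd0, hd⟩ := IsIrrCharacter.exists_degree hχi
    obtain ⟨m, hm, hm4, -, -⟩ := InvolValues.invol_mod_four hperf hχc hy2 hd
    obtain ⟨c, hc⟩ := ColumnData.exists_count hg hχc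
    have hconst : ∀ b : ZMod 7, b ≠ 0 → c b = c 1 := fun b hb => by
      have h := ColumnData.count_pow hg hc hc hb (fun j => ?_) 1
      · rwa [mul_one] at h
      obtain ⟨h', hh⟩ := hall b hb
      rw [ColumnData.pow_val_mul hg, ← hh, conj_pow, hcls]
    have hdc : d = c 0 + 6 * c 1 := by
      have h := ColumnData.sum_count hg hc
      rw [hd, ← add_sum_erase _ _ (mem_univ (0 : ZMod 7)), sum_congr rfl fun b hb => hconst b (ne_of_mem_erase hb),
        sum_const, card_erase_of_mem (mem_univ _), card_univ, ZMod.card, smul_eq_mul] at h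
      exact_mod_cast h
    have hval : χ g = (((c 0 : ℤ) - c 1 : ℤ) : ℂ) := by
      have h := hc 1
      rw [ZMod.val_one, pow_one] at h
      rw [h, ← add_sum_erase _ _ (mem_univ (0 : ZMod 7))]
      simp only [mul_one]
      rw [AddChar.map_zero_eq_one, mul_one, sum_congr rfl fun b hb => by rw [hconst b (ne_of_mem_erase hb)], ← mul_sum]
      have h7 : ∑ j : ZMod 7, ZMod.stdAddChar j = 0 := by
        simpa using ColumnData.sum_stdAddChar (p := 7) (1 : ZMod 7)
      rw [← add_sum_erase _ _ (mem_univ (0 : ZMod 7)), AddChar.map_zero_eq_one] at h7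
      push_cast
      linear_combination (c 1 : ℂ) * h7
    refine ⟨d, (c 0 : ℤ) - c 1, m, by rw [hd, Int.cast_natCast], hval, hm, fun hne hv6 hv0 hd2 => ?_⟩
    obtain ⟨hb1, hb2⟩ := abs_le_count hg hy2 hyg hχc
      (fun i => (IsClassFunction.apply_eq_of_isConj hcls (hyconj i)).symm) hc hm
    have hc1 : 0 < c 1 := Nat.pos_of_ne_zero fun h0 => by
      refine ColumnData.faithful hχi hne (ColumnData.ne_one_of_simple hG hχi hne) (g := g)
        (fun h => by rw [h, orderOf_one] at hg; omega) ?_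
      rw [hval, hd, hdc, h0]
      simp
    have hd38 : d ≤ 38 := by
      by_contra hlt
      have : (39 : ℤ) * 39 ≤ (d : ℤ) * d := mul_le_mul (by omega) (by omega) (by norm_num) (by omega)
      omega
    have h := mem_kinds (c 0) (List.mem_range.2 (by omega)) (c 1) (List.mem_range.2 (by omega)) hc1
      (Nat.mod_eq_zero_of_dvd (hdc ▸ hn ▸ IsIrrCharacter.degree_dvd_card hχi hd))
      (by rw [← hdc, sq]; exact_mod_cast hd2) hv6 (fun h => hv0 (by rw [h, sub_self]))
      (m + c 0).toNat (List.mem_range.2 (by omega)) (by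
        rw [Int.toNat_of_nonneg (by omega), add_sub_cancel_right, ← hdc]
        omega)
    rwa [Int.toNat_of_nonneg (by omega), add_sub_cancel_right, ← hdc] at h
  choose! D V M hD hV hM hkind using hvals
  set triv : G → ℂ := fun _ => 1 with htriv
  have htm : triv ∈ irrFinset G := mem_irrFinset.mpr isIrrCharacter_one
  have ht1 : D triv = 1 ∧ V triv = 1 ∧ M triv = 1 := by
    refine ⟨?_, ?_, ?_⟩
    · have h : (((D triv : ℤ)) : ℂ) = ((1 : ℤ) : ℂ) := (hD triv htm).symm.trans Int.cast_one.symm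
      exact Int.cast_injective h
    · have h : (((V triv : ℤ)) : ℂ) = ((1 : ℤ) : ℂ) := (hV triv htm).symm.trans Int.cast_one.symm
      exact Int.cast_injective h
    · have h : (((M triv : ℤ)) : ℂ) = ((1 : ℤ) : ℂ) := (hM triv htm).symm.trans Int.cast_one.symm
      exact Int.cast_injective h
  -- the four relations
  have hg1 : g ≠ 1 := fun h => by rw [h, orderOf_one] at hg; omega
  have hgy : ¬ IsConj g y := fun h => by
    obtain ⟨a, ha⟩ := isConj_iff.1 h
    have h' := (MulAut.conj a).orderOf_eq g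
    rw [MulAut.conj_apply, ha, hy, hg] at h'
    omega
  have r1 : ∑ χ ∈ irrFinset G, V χ * V χ = 7 := by
    have h := sum_irr_mul_conj g g
    rw [if_pos (IsConj.refl g), hC, sum_congr rfl fun χ hχ => by rw [hV χ hχ, map_intCast]] at h
    exact_mod_cast h
  have r2 : ∑ χ ∈ irrFinset G, V χ * D χ = 0 := by
    have h := sum_irr_mul_conj g 1
    rw [if_neg fun hc => hg1 (isConj_one_left.1 hc), sum_congr rfl fun χ hχ => by
      rw [hV χ hχ, hD χ hχ, map_intCast]] at h
    exact_mod_cast h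
  have r3 : ∑ χ ∈ irrFinset G, V χ * M χ = 0 := by
    have h := sum_irr_mul_conj g y
    rw [if_neg hgy, sum_congr rfl fun χ hχ => by rw [hV χ hχ, hM χ hχ, map_intCast]] at h
    exact_mod_cast h
  set I := ((irrFinset G).erase triv).filter fun χ => V χ ≠ 0 with hI
  have hsub : ∀ F : (G → ℂ) → ℤ, (∀ χ, V χ = 0 → F χ = 0) →
      ∑ χ ∈ irrFinset G, F χ = F triv + ∑ χ ∈ I, F χ := fun F hF => by
    rw [← add_sum_erase _ _ htm, hI]
    congr 1
    refine (sum_filter_of_ne fun χ _ hne => ?_).symm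
    exact fun h0 => hne (hF χ h0)
  rw [hsub _ fun χ h => by rw [h, mul_zero], ht1.2.1] at r1
  rw [hsub _ fun χ h => by rw [h, zero_mul], ht1.1, ht1.2.1] at r2
  rw [hsub _ fun χ h => by rw [h, zero_mul], ht1.2.1, ht1.2.2] at r3
  have hmem : ∀ χ ∈ I, (V χ, D χ, M χ) ∈ kinds := fun χ hχ => by
    obtain ⟨hχ', hv0⟩ := mem_filter.1 hχ
    have hχ0 := mem_of_mem_erase hχ'
    refine hkind χ hχ0 (ne_of_mem_erase hχ') ?_ hv0 ?_
    · have := single_le_sum (f := fun χ => V χ * V χ) (fun χ _ => mul_self_nonneg _) hχ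
      linarith
    · have hsq : ∑ χ ∈ irrFinset G, D χ * D χ = 1512 := by
        have h := sum_degree_sq (G := G)
        rw [hn, sum_congr rfl fun χ hχ => by rw [hD χ hχ, sq]] at h
        exact_mod_cast h
      rw [← add_sum_erase _ _ htm, ht1.1] at hsq
      have := single_le_sum (f := fun χ => D χ * D χ) (fun χ _ => mul_self_nonneg _) hχ'
      linarith
  have r4 : ∑ χ ∈ I, M χ * M χ * V χ * (216 / D χ) = 360 := by
    have h := card_class_products y y g
    rw [hpairs, hK, hn] at h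
    have h' : (216 : ℂ) * ∑ χ ∈ irrFinset G, χ y * χ y * conj (χ g) / χ 1 = 576 := by
      push_cast at h
      linear_combination ((216 * 1512 : ℂ) / (63 * 63)) * (-h)
    have hterm : ∀ χ ∈ irrFinset G, V χ = 0 → χ y * χ y * conj (χ g) / χ 1 = 0 := fun χ hχ h0 => by
      rw [hV χ hχ, h0, Int.cast_zero, map_zero, mul_zero, zero_div]
    rw [← add_sum_erase _ _ htm] at h'
    simp only [htriv, map_one, mul_one, div_one] at h'
    rw [← sum_filter_of_ne (p := fun χ => V χ ≠ 0) (fun χ hχ hne h0 => hne (hterm χ (mem_of_mem_erase hχ) h0)),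
      ← hI, mul_add, mul_sum] at h'
    rw [sum_congr rfl fun χ hχ => show (216 : ℂ) * (χ y * χ y * conj (χ g) / χ 1) =
      ((M χ * M χ * V χ * (216 / D χ) : ℤ) : ℂ) from ?_] at h'
    · rw [← Int.cast_sum] at h'
      have h'' : ((216 : ℤ) : ℂ) * 1 + ((∑ χ ∈ I, M χ * M χ * V χ * (216 / D χ) : ℤ) : ℂ) = ((576 : ℤ) : ℂ) := by
        push_cast at h' ⊢
        linear_combination h'
      norm_cast at h''
      omega
    have hχ0 := mem_of_mem_erase (mem_filter.1 hχ).1
    rw [hV χ hχ0, hM χ hχ0, hD χ hχ0, map_intCast]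
    have hdiv : D χ ∣ 216 ∧ D χ ≠ 0 := by
      have := hmem χ hχ
      simp only [kinds, List.mem_cons, List.not_mem_nil, or_false, Prod.mk.injEq] at this
      rcases this with ⟨-, h, -⟩ | ⟨-, h, -⟩ | ⟨-, h, -⟩ | ⟨-, h, -⟩ | ⟨-, h, -⟩ | ⟨-, h, -⟩ | ⟨-, h, -⟩ |
        ⟨-, h, -⟩ | ⟨-, h, -⟩ <;> rw [h] <;> norm_num
    obtain ⟨q, hq⟩ := hdiv.1
    rw [show (216 : ℤ) / D χ = q by rw [hq, Int.mul_ediv_cancel_left _ hdiv.2]]
    have hD0 : (D χ : ℂ) ≠ 0 := Int.cast_ne_zero.2 hdiv.2
    have hq' : (216 : ℂ) = (D χ : ℂ) * q := by exact_mod_cast hq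
    push_cast
    rw [hq']
    field_simp
  -- count the kinds
  let ι : (G → ℂ) → Fin 9 := fun χ => if h : kinds.idxOf (V χ, D χ, M χ) < 9 then
    ⟨kinds.idxOf (V χ, D χ, M χ), h⟩ else 0
  have hι : ∀ χ ∈ I, kinds.get (ι χ) = (V χ, D χ, M χ) := fun χ hχ => by
    have hlt : kinds.idxOf (V χ, D χ, M χ) < kinds.length := List.idxOf_lt_length_iff.2 (hmem χ hχ)
    have hlt' : kinds.idxOf (V χ, D χ, M χ) < 9 := hlt
    simp only [ι, dif_pos hlt']
    exact List.getElem_idxOf hlt
  have hgroup : ∀ F : ℤ × ℤ × ℤ → ℤ, ∑ χ ∈ I, F (V χ, D χ, M χ) =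
      ∑ i : Fin 9, ((I.filter fun χ => ι χ = i).card : ℤ) * F (kinds.get i) := fun F => by
    rw [← sum_fiberwise I ι]
    refine sum_congr rfl fun i _ => ?_
    rw [sum_congr rfl (g := fun _ => F (kinds.get i)) fun χ hχ => by
      rw [← (mem_filter.1 hχ).2, hι χ (mem_filter.1 hχ).1], sum_const, nsmul_eq_mul]
  refine no_kinds (fun i => (I.filter fun χ => ι χ = i).card) ?_ ?_ ?_ ?_
  · rw [← hgroup fun q => q.1 * q.1]; linarith
  · rw [← hgroup fun q => q.1 * q.2.1]; linarith
  · rw [← hgroup fun q => q.1 * q.2.2]; linarith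
  · rw [← hgroup fun q => q.2.2 * q.2.2 * q.1 * (216 / q.2.1)]; exact r4

end CfsgLib.ThirtySixForty
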