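import Cfsg.Agent.SmallSimple.RealPrime.Five

/-!
# No simple group of order 2160

For `p = 5` there are two exceptional characters of equal degree and one further non-principal
character not vanishing at `s`; the value at a 2-central involution contradicts the class formula.
-/

set_option autoImplicit false
set_option linter.style.haveILetI false

namespace CfsgLib.RealPrime

open Finset CfsgLib.Char

/-- The admissible degrees. -/
theorem five_degrees_twenty_one_sixty : ∀ a ∈ List.range 47, ∀ c ∈ List.range 47, ∀ u ∈ ([1, -1] : List ℤ), ∀ w ∈ ([1, -1] : List ℤ),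
    (decide (2 ≤ a) && decide (2 ≤ c) && 2160 % a == 0 && 2160 % c == 0 && ((a : ℤ) - 2 * u) % 5 == 0 &&
      ((c : ℤ) - 4 * w) % 5 == 0 && -1 + u * a + w * c == 0) = true →
      (a = 3 ∧ c = 4 ∧ u = -1 ∧ w = 1) ∨ (a = 8 ∧ c = 9 ∧ u = -1 ∧ w = 1) := by
  decide +kernel

variable {G : Type*} [Group G] [Finite G] [IsSimpleGroup G]

set_option maxHeartbeats 1000000 in
theorem false_of_twenty_one_sixty (hG : ¬ IsMulCommutative G) (hn : Nat.card G = 2160) : False := by
  classical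
  obtain ⟨e3, e4, e10, e20, e2, f0, f1, f2, f3, f4⟩ := five_facts
  haveI : Fact (Nat.Prime 5) := ⟨by norm_num⟩
  letI : Fintype G := Fintype.ofFinite G
  obtain ⟨s, t, E⟩ := exists_dihedral_of_opts (p := 5) (k := 216) (u := 2) (a := 4) (w := 3) (b := 3)
    hG (by norm_num) hn (by decide +kernel) (by decide +kernel) (by norm_num)
  obtain ⟨z, hz, hK⟩ := exists_central_involution (a := 4) (m := 135) hn (by norm_num) (by norm_num) (by norm_num)
  obtain ⟨d, y, c, hS⟩ := E.exists_system hG hn hz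
  set triv : G → ℂ := fun _ => 1 with htriv
  have htm : triv ∈ irrFinset G := mem_irrFinset.mpr isIrrCharacter_one
  obtain ⟨hd1, hy1, hc1⟩ := hS.triv
  let S : (G → ℂ) → ℤ := fun χ => c χ 1 + c χ 2 - 2 * c χ 0
  let q : (G → ℂ) → ℤ := fun χ => c χ 1 - c χ 2
  have hc3 : ∀ χ ∈ irrFinset G, c χ 3 = c χ 2 := fun χ hχ =>
    (congrArg (c χ) e3).trans (hS.even_c χ hχ 2)
  have hc4 : ∀ χ ∈ irrFinset G, c χ 4 = c χ 1 := fun χ hχ =>
    (congrArg (c χ) e4).trans (hS.even_c χ hχ 1)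
  have hd : ∀ χ ∈ irrFinset G, d χ = 5 * c χ 0 + 2 * S χ := fun χ hχ => by
    rw [hS.sum_c χ hχ, zmod5_sum, hc3 χ hχ, hc4 χ hχ]; simp only [S]; ring
  have hS1 : S triv = -2 := by simp [S, htriv, hc1, e10, e20]
  have hq1 : q triv = 0 := by simp [q, htriv, hc1, e10, e20]
  have hcross1 : ∑ χ ∈ irrFinset G, (S χ * S χ + 5 * (q χ * q χ)) = 20 := by
    have h := hS.cross 1 one_ne_zero
    rw [if_pos (Or.inl rfl)] at h
    refine Eq.trans (sum_congr rfl fun χ hχ => ?_) (h.trans (by norm_num))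
    rw [zmod5_sum]
    simp only [one_mul, hc3 χ hχ, hc4 χ hχ, hd χ hχ, S, q]
    push_cast
    ring
  have hcross2 : ∑ χ ∈ irrFinset G, (S χ * S χ - 5 * (q χ * q χ)) = 0 := by
    have h := hS.cross 2 e20
    rw [if_neg e2] at h
    refine Eq.trans (sum_congr rfl fun χ hχ => ?_) h
    rw [zmod5_sum]
    simp only [f0, f1, f2, f3, f4, hc3 χ hχ, hc4 χ hχ, hd χ hχ, S, q]
    push_cast
    ring
  rw [sum_add_distrib] at hcross1
  rw [sum_sub_distrib] at hcross2
  rw [← mul_sum] at hcross1 hcross2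
  have hSS : ∑ χ ∈ irrFinset G, S χ * S χ = 10 := by omega
  have hqq : ∑ χ ∈ irrFinset G, q χ * q χ = 2 := by omega
  have hdd : ∀ b, ∑ χ ∈ irrFinset G, d χ * c χ b = 432 := fun b => by
    have h := hS.degrees b
    norm_num at h
    linarith
  have hdS : ∑ χ ∈ irrFinset G, d χ * S χ = 0 := by
    rw [sum_congr rfl fun χ _ => show d χ * S χ = d χ * c χ 1 + d χ * c χ 2 - 2 * (d χ * c χ 0) by
      simp only [S]; ring, sum_sub_distrib, sum_add_distrib, ← mul_sum, hdd, hdd, hdd]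
    norm_num
  have hdq : ∑ χ ∈ irrFinset G, d χ * q χ = 0 := by
    rw [sum_congr rfl fun χ _ => show d χ * q χ = d χ * c χ 1 - d χ * c χ 2 by simp only [q]; ring,
      sum_sub_distrib, hdd, hdd, sub_self]
  have hyS : ∑ χ ∈ irrFinset G, y χ * S χ = 0 := by
    rw [sum_congr rfl fun χ _ => show y χ * S χ = y χ * c χ 1 + y χ * c χ 2 - 2 * (y χ * c χ 0) by
      simp only [S]; ring, sum_sub_distrib, sum_add_distrib, ← mul_sum, hS.values, hS.values, hS.values]
    norm_num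
  have hyq : ∑ χ ∈ irrFinset G, y χ * q χ = 0 := by
    rw [sum_congr rfl fun χ _ => show y χ * q χ = y χ * c χ 1 - y χ * c χ 2 by simp only [q]; ring,
      sum_sub_distrib, hS.values, hS.values, sub_self]
  -- separate the principal character
  set I := (irrFinset G).erase triv with hI
  have hmem : ∀ χ ∈ I, χ ∈ irrFinset G := fun χ hχ => mem_of_mem_erase hχ
  rw [← add_sum_erase _ _ htm, hS1] at hSS hdS hyS
  rw [← add_sum_erase _ _ htm, hq1] at hqq hdq hyq
  rw [← hI] at hSS hdS hyS hqq hdq hyq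
  set Q := I.filter fun χ => q χ ≠ 0 with hQ
  have hsplitq : ∀ F : (G → ℂ) → ℤ, (∀ χ ∈ I, q χ = 0 → F χ = 0) → ∑ χ ∈ I, F χ = ∑ χ ∈ Q, F χ := fun F hF =>
    (sum_subset (filter_subset _ _) fun χ hχ hn => hF χ hχ (by_contra fun h => hn (mem_filter.2 ⟨hχ, h⟩))).symm
  rw [hsplitq _ (fun χ _ h => by rw [h, mul_zero])] at hqq hdq hyq
  have hqb : ∀ χ ∈ Q, q χ = 1 ∨ q χ = -1 := fun χ hχ => by
    have h1 := single_le_sum (fun ψ _ => mul_self_nonneg (q ψ)) hχ
    have h0 : q χ ≠ 0 := (mem_filter.1 hχ).2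
    have : -1 ≤ q χ ∧ q χ ≤ 1 := ⟨by nlinarith, by nlinarith⟩
    omega
  have hQ2 : Q.card = 2 := by
    rw [sum_congr rfl fun χ hχ => show q χ * q χ = 1 by rcases hqb χ hχ with h | h <;> rw [h] <;> rfl,
      sum_const, nsmul_one] at hqq
    have : (Q.card : ℤ) = 2 := by linarith
    exact_mod_cast this
  obtain ⟨A, B, hAB, hQe⟩ := card_eq_two.1 hQ2
  have hAQ : A ∈ Q := by simp [hQe]
  have hBQ : B ∈ Q := by simp [hQe]
  have hAI := (mem_filter.1 hAQ).1
  have hBI := (mem_filter.1 hBQ).1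
  have hsum2 : ∀ F : (G → ℂ) → ℤ, ∑ χ ∈ Q, F χ = F A + F B := fun F => by rw [hQe, sum_pair hAB]
  rw [hsum2] at hqq hdq hyq
  have hsplitS : ∀ F : (G → ℂ) → ℤ, ∑ χ ∈ I, F χ = F A + F B + ∑ χ ∈ (I.erase A).erase B, F χ := fun F => by
    rw [← add_sum_erase _ _ hAI, ← add_sum_erase _ _ (mem_erase.2 ⟨hAB.symm, hBI⟩)]; ring
  rw [hsplitS] at hSS hdS hyS
  set R := (I.erase A).erase B with hR
  have hrest : ∀ χ ∈ R, ∃ k, S χ = 2 * k := fun χ hχ => by
    obtain ⟨hB', hA', hI'⟩ : χ ≠ B ∧ χ ≠ A ∧ χ ∈ I := by simpa [hR] using hχ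
    have : q χ = 0 := by
      by_contra h
      have := (mem_filter (s := I) (p := fun χ => q χ ≠ 0)).2 ⟨hI', h⟩
      rw [← hQ, hQe] at this
      simp [hA', hB'] at this
    exact ⟨c χ 2 - c χ 0, by simp only [S, q] at this ⊢; linarith⟩
  have hoddS : ∀ χ ∈ Q, S χ % 2 = 1 ∨ S χ % 2 = -1 := fun χ hχ => by
    have := hqb χ hχ
    simp only [S, q] at this ⊢
    omega
  have hR0 : 0 ≤ ∑ χ ∈ R, S χ * S χ := sum_nonneg fun χ _ => mul_self_nonneg _
  have hunit : ∀ x : ℤ, x * x ≤ 6 → (x % 2 = 1 ∨ x % 2 = -1) → x = 1 ∨ x = -1 := fun x h h' => by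
    have : -2 ≤ x ∧ x ≤ 2 := ⟨by nlinarith, by nlinarith⟩
    omega
  have hSA := hunit _ (by nlinarith [mul_self_nonneg (S B)]) (hoddS A hAQ)
  have hSB := hunit _ (by nlinarith [mul_self_nonneg (S A)]) (hoddS B hBQ)
  have hR4 : ∑ χ ∈ R, S χ * S χ = 4 := by
    rcases hSA with h | h <;> rcases hSB with h' | h' <;> rw [h, h'] at hSS <;> linarith
  obtain ⟨C, hC, hC0⟩ : ∃ C ∈ R, S C ≠ 0 := by
    by_contra h
    simp only [not_exists, not_and, not_not] at h
    rw [sum_eq_zero fun χ hχ => by rw [h χ hχ, mul_zero]] at hR4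
    norm_num at hR4
  have hSC : S C = 2 ∨ S C = -2 := by
    obtain ⟨k, hk⟩ := hrest C hC
    have h1 := single_le_sum (fun ψ _ => mul_self_nonneg (S ψ)) hC
    rw [hR4] at h1
    have : -2 ≤ S C ∧ S C ≤ 2 := ⟨by nlinarith, by nlinarith⟩
    omega
  have hR' : ∀ χ ∈ R.erase C, S χ = 0 := by
    rw [← add_sum_erase _ _ hC] at hR4
    have h3 : ∑ χ ∈ R.erase C, S χ * S χ = 0 := by rcases hSC with h | h <;> rw [h] at hR4 <;> linarith
    exact fun χ hχ =>
      mul_self_eq_zero.1 ((sum_eq_zero_iff_of_nonneg fun x _ => mul_self_nonneg (S x)).1 h3 χ hχ)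
  have hsumR : ∀ F : (G → ℂ) → ℤ, ∑ χ ∈ R, F χ * S χ = F C * S C := fun F => by
    rw [← add_sum_erase _ _ hC, sum_eq_zero fun χ hχ => by rw [hR' χ hχ, mul_zero], add_zero]
  rw [hsumR] at hdS hyS
  have hCI : C ∈ I := mem_of_mem_erase (mem_of_mem_erase hC)
  obtain ⟨hA2, hAd, hAn, hAl, hAu, hA4⟩ := hS.facts A (hmem A hAI) (ne_of_mem_erase hAI)
  obtain ⟨hB2, -, -, -, -, -⟩ := hS.facts B (hmem B hBI) (ne_of_mem_erase hBI)
  obtain ⟨hC2, hCd, hCn, hCl, hCu, hC4⟩ := hS.facts C (hmem C hCI) (ne_of_mem_erase hCI)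
  -- equal degrees and values for the exceptional characters
  obtain ⟨hdAB, hyAB, hqAB⟩ : d B = d A ∧ y B = y A ∧ q B = -q A := by
    rcases hqb A hAQ with h | h <;> rcases hqb B hBQ with h' | h' <;> rw [h, h'] at hdq hyq <;>
      refine ⟨?_, ?_, ?_⟩ <;> omega
  rw [hdAB] at hdS
  rw [hyAB] at hyS
  rw [hd1] at hdS
  rw [hy1] at hyS
  have hSAB : S B = S A := by
    rcases hSA with h | h <;> rcases hSB with h' | h' <;> rcases hSC with h'' | h'' <;>
      simp only [h, h', h''] at hdS ⊢ <;> omega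
  rw [hSAB] at hdS hyS
  obtain ⟨w, hw, hSCw⟩ : ∃ w ∈ ([1, -1] : List ℤ), S C = 2 * w := by
    rcases hSC with h | h
    · exact ⟨1, by simp, h⟩
    · exact ⟨-1, by simp, h.trans (by norm_num)⟩
  have hu : S A ∈ ([1, -1] : List ℤ) := by rcases hSA with h | h <;> simp [h]
  rw [hSCw] at hdS hyS
  have hA46 : d A ≤ 46 := by norm_num at hAd; nlinarith
  have hC46 : d C ≤ 46 := by norm_num at hCd; nlinarith
  have hd0 := hd A (hmem A hAI)
  have hd0' := hd C (hmem C hCI)
  rw [hSCw] at hd0'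
  have hdeg := five_degrees_twenty_one_sixty (d A).toNat (List.mem_range.2 (by omega)) (d C).toNat (List.mem_range.2 (by omega))
    _ hu _ hw (by
      have h1 : 2160 % (d A).toNat = 0 := Nat.mod_eq_zero_of_dvd (by
        have := Int.natAbs_dvd_natAbs.2 hAn
        rwa [Int.natAbs_natCast, show (d A).natAbs = (d A).toNat by omega] at this)
      have h2 : 2160 % (d C).toNat = 0 := Nat.mod_eq_zero_of_dvd (by
        have := Int.natAbs_dvd_natAbs.2 hCn
        rwa [Int.natAbs_natCast, show (d C).natAbs = (d C).toNat by omega] at this)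
      simp only [Bool.and_eq_true, decide_eq_true_eq, beq_iff_eq]
      rw [Int.toNat_of_nonneg (by omega), Int.toNat_of_nonneg (by omega)]
      refine ⟨⟨⟨⟨⟨⟨by omega, by omega⟩, h1⟩, h2⟩, ?_⟩, ?_⟩, ?_⟩
      · omega
      · omega
      · linarith)
  -- the class formula
  obtain ⟨N, hN, hform⟩ := hS.formula
  set K := Nat.card {x : G // IsConj z x}
  have hK135 : (K : ℤ) ≤ 135 := by exact_mod_cast Nat.le_of_dvd (by norm_num) hK
  have hK1 : 1 ≤ (K : ℤ) := by exact_mod_cast Nat.pos_of_dvd_of_pos hK (by norm_num)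
  have hKK : (K : ℤ) ^ 2 ≤ 135 ^ 2 := pow_le_pow_left₀ (by omega) hK135 2
  have hK0 : 1 ≤ (K : ℤ) ^ 2 := one_le_pow₀ hK1
  have hterm : ∀ χ ∈ irrFinset G, y χ * y χ * ((5 : ℕ) * c χ 0 - d χ) * (((2160 : ℕ) : ℤ) / d χ) =
      -2 * (y χ * y χ * (2160 / d χ) * S χ) := fun χ hχ => by
    rw [hd χ hχ]; push_cast; ring
  rw [sum_congr rfl hterm, ← mul_sum, ← add_sum_erase _ _ htm, ← hI, hsplitS, hsumR (fun χ => y χ * y χ * (2160 / d χ)),
    hS1, hSAB, hdAB, hyAB, hy1, hd1, hSCw] at hform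
  have hKdiv : ∀ M : ℤ, (∀ k ∈ Nat.divisors 135, (k : ℤ) ^ 2 ≠ M) → (K : ℤ) ^ 2 ≠ M := fun M h =>
    h K (Nat.mem_divisors.2 ⟨hK, by norm_num⟩)
  have hNcase : N = 20 ∨ N = 0 := by
    rcases hN with ⟨-, h⟩ | ⟨-, h⟩
    · exact Or.inl (by rw [h]; norm_num)
    · exact Or.inr h
  rcases hdeg with ⟨ha, hc, hu', hw'⟩ | ⟨ha, hc, hu', hw'⟩
  · have ha' : d A = 3 := by omega
    have hc' : d C = 4 := by omega
    have hyA : y A = -1 := by omega
    rw [hu', hw', hyA] at hyS
    have hyC : y C = 0 := by omega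
    rw [hu', hw', ha', hc', hyA, hyC] at hform
    norm_num at hform
    rcases hNcase with h | h <;> subst h <;>
      first
        | linarith
        | exact hKdiv 8100 (by decide) (by linarith)
        | exact hKdiv 5400 (by decide) (by linarith)
        | exact hKdiv 12150 (by decide) (by linarith)
  · have ha' : d A = 8 := by omega
    have hc' : d C = 9 := by omega
    rw [hu', hw'] at hyS
    have hyC : y C = 1 + y A := by omega
    have hyb : y A = -4 ∨ y A = 0 ∨ y A = 4 := by omega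
    rw [hu', hw', ha', hc', hyC] at hform
    rcases hyb with hy | hy | hy <;> rw [hy] at hform <;> norm_num at hform <;>
      rcases hNcase with h | h <;> subst h <;>
      first
        | linarith
        | exact hKdiv 8100 (by decide) (by linarith)
        | exact hKdiv 5400 (by decide) (by linarith)
        | exact hKdiv 12150 (by decide) (by linarith)

end CfsgLib.RealPrime
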