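import Cfsg.Agent.SmallSimple.SixThousand.HandA
import Cfsg.Agent.SmallSimple.ColumnData3
import Cfsg.Agent.Solvable.PGroupBasic

/-!
# A central involution commuting with an element of prime order, and the refuted orders 1680, 1980, 3168, 3360
-/

set_option autoImplicit false
set_option linter.style.haveILetI false

namespace CfsgLib.ThirtySixForty

open Subgroup CfsgLib.SylowCheck CfsgLib.SixThousand CfsgLib.FixedPoints CfsgLib.FiftyForty

variable {G : Type*} [Group G] [Finite G] [IsSimpleGroup G]

/-- If the normaliser of a Sylow subgroup of prime order is the product with a Sylow two-subgroup and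
its centraliser has even order, an involution of the latter central in the Sylow subgroup would fix
one point only and hence be isolated. -/
theorem false_of_even_centralizer (hG : ¬ IsMulCommutative G) {n p k c a o : ℕ} (hn : Nat.card G = n)
    (hr : Real G (p, k, c)) (hp2 : p ≠ 2) (hc2 : 2 ∣ c) (hm : k * (2 ^ a * p) = n)
    (ho : n = 2 ^ a * o) (hodd : o % 2 = 1)
    (hF : ∀ F, F < k → F % p = 1 → 4 ∣ k - F → F = 1) : False := by
  classical
  obtain ⟨g, hp, hsq, hg, hC, hN, hk⟩ := exists_generator hr hn hm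
  haveI : Fact p.Prime := ⟨hp⟩
  haveI : Fact (Nat.Prime 2) := ⟨Nat.prime_two⟩
  set N := normalizer ((zpowers g : Subgroup G) : Set G) with hNdef
  set C := centralizer ({g} : Set G) with hCdef
  have hCN : C ≤ N := centralizer_le g
  have hpodd : ¬ 2 ∣ p := fun h => hp2 ((Nat.prime_dvd_prime_iff_eq Nat.prime_two hp).1 h).symm
  obtain ⟨S⟩ : Nonempty (Sylow 2 N) := inferInstance
  have hS : Nat.card (S : Subgroup N) = 2 ^ a :=
    CfsgLib.SmallSimple.card_sylow_eq S (k := a) (m := p) hN hpodd
  set S' := (S : Subgroup N).map N.subtype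
  have hS' : Nat.card S' = 2 ^ a := by
    rw [← hS]
    exact (Nat.card_congr (Subgroup.equivMapOfInjective _ _ N.subtype_injective).toEquiv).symm
  have hSN : S' ≤ N := map_subtype_le _
  have key : ∀ b ∈ N, ∀ y ∈ C, b * y * b⁻¹ ∈ C := fun b hb y hy => by
    obtain ⟨j, hj⟩ := (mem_normalizer_iff''.1 hb g).1 (mem_zpowers g)
    have hy' : Commute y g := mem_centralizer_singleton_iff.1 hy
    have hj' : g ^ j = b⁻¹ * g * b := hj
    rw [mem_centralizer_singleton_iff]
    calc b * y * b⁻¹ * g = b * (y * (b⁻¹ * g * b)) * b⁻¹ := by group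
      _ = b * ((b⁻¹ * g * b) * y) * b⁻¹ := by rw [← hj', (hy'.zpow_right j).eq]
      _ = g * (b * y * b⁻¹) := by group
  set V := C.subgroupOf S'
  haveI : V.Normal := ⟨fun y hy b => by
    rw [mem_subgroupOf] at hy ⊢
    exact key b (hSN b.2) _ hy⟩
  have hV : V ≠ ⊥ := fun hbot => by
    let f : C × S' → N := fun u => ⟨u.1 * u.2, N.mul_mem (hCN u.1.2) (hSN u.2.2)⟩
    have hf : Function.Injective f := by
      rintro ⟨x, y⟩ ⟨x', y'⟩ h
      have h' : (x : G) * y = x' * y' := congrArg Subtype.val h
      have hmem : y' * y⁻¹ ∈ V := by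
        rw [mem_subgroupOf, Subgroup.coe_mul, Subgroup.coe_inv,
          show (y' : G) * (y : G)⁻¹ = (x' : G)⁻¹ * x by
            rw [eq_inv_mul_iff_mul_eq, ← mul_assoc, ← h', mul_inv_cancel_right]]
        exact C.mul_mem (C.inv_mem x'.2) x.2
      rw [hbot, Subgroup.mem_bot, mul_inv_eq_one] at hmem
      subst hmem
      exact Prod.ext (Subtype.ext (mul_right_cancel h')) rfl
    have h1 := Nat.card_le_card_of_injective f hf
    rw [Nat.card_prod, hC, hS', hN] at h1
    have h2 : 2 ≤ c := Nat.le_of_dvd (Nat.pos_of_ne_zero fun h => by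
      have : 0 < Nat.card C := Nat.card_pos
      rw [hC, h, mul_zero] at this; omega) hc2
    have h3 : 0 < 2 ^ a * p := Nat.mul_pos (by positivity) hp.pos
    have h4 : p * c * 2 ^ a = c * (2 ^ a * p) := by ring
    rw [h4] at h1
    have h5 := Nat.mul_le_mul_right (2 ^ a * p) h2
    omega
  haveI : Group.IsNilpotent S' := (IsPGroup.of_card hS').isNilpotent
  have hVZ := CfsgLib.PGroupBasic.inf_center_ne_bot V hV
  have hd2 : 2 ∣ Nat.card (V ⊓ center S' : Subgroup S') := by
    obtain ⟨j, -, hj⟩ := (Nat.dvd_prime_pow Nat.prime_two).1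
      (hS' ▸ Subgroup.card_subgroup_dvd_card (V ⊓ center S'))
    rw [hj]
    exact dvd_pow_self 2 fun h0 => hVZ (Subgroup.eq_bot_of_card_eq _ (by rw [hj, h0, pow_zero]))
  obtain ⟨w, hw⟩ := exists_prime_orderOf_dvd_card' (G := (V ⊓ center S' : Subgroup S')) 2 hd2
  set t : G := ((w : S') : G) with htdef
  have ht : orderOf t = 2 := by
    rw [htdef, Subgroup.orderOf_coe, Subgroup.orderOf_coe, hw]
  have htC : t ∈ C := mem_subgroupOf.1 (mem_inf.1 w.2).1
  have htc : ∀ b ∈ S', b * t = t * b := fun b hb =>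
    congrArg Subtype.val (mem_center_iff.1 (mem_inf.1 w.2).2 ⟨b, hb⟩)
  have hgt : Commute t g := mem_centralizer_singleton_iff.1 htC
  obtain ⟨h1, h2, j, h4⟩ := involution_fix hG hsq hg hk (fun h => by
    obtain ⟨-, -, hk', -⟩ := hr
    obtain ⟨P⟩ : Nonempty (Sylow p G) := inferInstance
    have h1 : Nat.card (Sylow p G) = 1 := hk'.trans h
    rw [h, one_mul] at hm
    rw [P.card_eq_index_normalizer] at h1
    haveI := normalizer_eq_top_iff.1 (index_eq_one.1 h1)
    rcases IsSimpleGroup.eq_bot_or_eq_top_of_normal (P : Subgroup G) inferInstance with h' | h'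
    · have h5 := P.not_dvd_index
      rw [h', index_bot] at h5
      exact h5 (hg ▸ orderOf_dvd_natCard g)
    · obtain ⟨b, hb⟩ := IsPGroup.iff_card.1 P.2
      rw [h', card_top] at hb
      have h6 : 2 ∣ p ^ b := hb ▸ ht ▸ orderOf_dvd_natCard t
      exact hpodd (Nat.prime_two.dvd_of_dvd_pow h6)) ht hgt
  rw [show normalizer ((zpowers g : Subgroup G) : Set G) = N from rfl] at h1 h2 h4
  have hF1 := hF _ h2 h1 ⟨j, by omega⟩
  have hcount := fixed_mul_card t N
  rw [hF1, hN, one_mul] at hcount
  have hd : 2 ^ a * p ∣ Nat.card (centralizer ({t} : Set G)) := by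
    refine Nat.Coprime.mul_dvd_of_dvd_of_dvd (Nat.Coprime.pow_left _ ((Nat.prime_two.coprime_iff_not_dvd).2 hpodd)) ?_ ?_
    · have h := Subgroup.card_dvd_of_le (fun b hb => mem_centralizer_singleton_iff.2 (htc b hb) :
        S' ≤ centralizer ({t} : Set G))
      rwa [hS'] at h
    · exact hg ▸ dvd_centralizer hgt.symm
  have hone : Nat.card {y : G // IsConj t y ∧ y ∈ N} = 1 := by
    have hpos := one_le_class (hCN htC)
    have hle := Nat.le_of_dvd Nat.card_pos hd
    by_contra hne
    have h2le : 2 ≤ Nat.card {y : G // IsConj t y ∧ y ∈ N} := by omega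
    have := Nat.mul_le_mul h2le hle
    have h3 : 0 < 2 ^ a * p := Nat.mul_pos (by positivity) hp.pos
    omega
  obtain ⟨P, hP⟩ := (IsPGroup.of_card hS').exists_le_sylow
  have hPS : (P : Subgroup G) = S' := (eq_of_le_of_card_ge hP (by
    rw [hS', CfsgLib.SmallSimple.card_sylow_eq P (k := a) (m := o) (hn.trans ho) (by omega)])).symm
  refine false_of_isolated hG P ht fun b hb => ?_
  have hbN : b * t * b⁻¹ ∈ N := hSN (hPS ▸ hb)
  haveI : Subsingleton {y : G // IsConj t y ∧ y ∈ N} := (Nat.card_eq_one_iff_unique.1 hone).1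
  exact congrArg Subtype.val (Subsingleton.elim
    (⟨_, isConj_iff.2 ⟨b, rfl⟩, hbN⟩ : {y : G // IsConj t y ∧ y ∈ N}) ⟨t, IsConj.refl t, hCN htC⟩)

theorem false_of_sixteen_eighty (hG : ¬ IsMulCommutative G) (hn : Nat.card G = 1680)
    (hr : Real G (5, 21, 4)) : False :=
  false_of_even_centralizer hG (a := 4) (o := 105) hn hr (by norm_num) (by norm_num) (by norm_num) (by norm_num) (by norm_num)
    fun F h1 h2 h3 => by omega

theorem false_of_thirty_three_sixty (hG : ¬ IsMulCommutative G) (hn : Nat.card G = 3360)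
    (hr : Real G (5, 21, 8)) : False :=
  false_of_even_centralizer hG (a := 5) (o := 105) hn hr (by norm_num) (by norm_num) (by norm_num) (by norm_num) (by norm_num)
    fun F h1 h2 h3 => by omega

theorem false_of_nineteen_eighty (hG : ¬ IsMulCommutative G) (hn : Nat.card G = 1980)
    (hr : Real G (11, 45, 2)) : False :=
  false_of_even_centralizer hG (a := 2) (o := 495) hn hr (by norm_num) (by norm_num) (by norm_num) (by norm_num) (by norm_num)
    fun F h1 h2 h3 => by omega


theorem false_of_thirty_one_sixty_eight (hG : ¬ IsMulCommutative G) (hn : Nat.card G = 3168)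
    (hr : Real G (11, 144, 1)) : False := by
  haveI : Fact (Nat.Prime 11) := ⟨by norm_num⟩
  obtain ⟨g, -, -, hgo, hC, hN, -⟩ := exists_generator hr hn (m := 22) (by norm_num)
  exact CfsgLib.ColumnData.false_of_table₃ hG (e := 2) (t := 5) (2 : ZMod 11) hn (by norm_num) (by norm_num)
    (by norm_num) (by decide +kernel +revert) (by decide +kernel +revert) hgo (hC.trans (mul_one 11))
    (exists_conj_pow (e := 2) hgo hC hN (by decide +kernel +revert) (by decide +kernel +revert))
    (D := [2, 3, 4, 6, 8, 9, 11, 12, 16, 18, 22, 24, 32, 33, 36, 44, 48])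
    (T := [(0, 0, 0), (10, 144, -120), (10, 1024, 320), (20, 288, -240), (20, 1168, 200), (20, 2048, 640), (30, 432, -360), (30, 1312, 80), (30, 2192, 520), (30, 3072, 960), (40, 576, -480), (40, 1456, -40), (40, 2336, 400), (50, 720, -600), (50, 1600, -160), (50, 2480, 280), (60, 864, -720), (60, 1744, -280), (60, 2624, 160), (70, 1008, -840), (70, 1888, -400), (70, 2768, 40), (80, 1152, -960), (80, 2032, -520), (80, 2912, -80), (90, 20, 20), (90, 405, -90), (90, 1296, -1080), (90, 2176, -640), (90, 2880, 240), (90, 3056, -200), (100, 164, -100), (100, 549, -210), (100, 1044, 340), (100, 1429, 230), (100, 1440, -1200), (100, 2320, -760), (100, 3024, 120)])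
    (by decide +kernel +revert) (by decide +kernel +revert)

end CfsgLib.ThirtySixForty
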