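import Cfsg.Agent.SmallSimple.SixThousand.HandB

/-!
# The orders 1800 and 3600

Two Sylow 5-subgroups meet in a subgroup `D` of order 5.  A normaliser of order 150 has a single
Sylow 5-subgroup; in the remaining case `D` is centralised by its normaliser of order 300 and an
element of the normaliser of a Sylow subgroup moving `D` yields a central element there.
-/

set_option autoImplicit false
set_option linter.style.haveILetI false

namespace CfsgLib.ThirtySixForty

open Subgroup CfsgLib.SixThousand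

/-- Groups of order dividing 150 or 100 with order divisible by 25 have one Sylow 5-subgroup. -/
theorem sylow_five_subsingleton {Y : Type*} [Group Y] [Finite Y] (h : Nat.card Y ∣ 150 ∨ Nat.card Y ∣ 100)
    (h25 : 25 ∣ Nat.card Y) (P R : Sylow 5 Y) : P = R := by
  haveI : Fact (Nat.Prime 5) := ⟨by norm_num⟩
  obtain ⟨m, hm⟩ := h25
  have hm' : m ∣ 6 ∨ m ∣ 4 := by
    rcases h with h | h <;> rw [hm] at h
    · exact Or.inl (Nat.dvd_of_mul_dvd_mul_left (by norm_num : 0 < 25) h)
    · exact Or.inr (Nat.dvd_of_mul_dvd_mul_left (by norm_num : 0 < 25) h)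
  have hm6 : m ≤ 6 := by
    rcases hm' with h | h <;> have := Nat.le_of_dvd (by norm_num) h <;> omega
  have hm5 : ¬ 5 ∣ m := by
    intro h5
    rcases hm' with h | h <;> have := h5.trans h <;> norm_num at this
  have hP : ∀ Q : Sylow 5 Y, Nat.card (Q : Subgroup Y) = 25 := fun Q =>
    CfsgLib.SmallSimple.card_sylow_eq Q (k := 2) (m := m) hm hm5
  have hn : Nat.card (Sylow 5 Y) ∣ m := by
    have h2 := (P : Subgroup Y).card_mul_index
    rw [hP, hm] at h2
    exact Nat.eq_of_mul_eq_mul_left (by norm_num : 0 < 25) h2 ▸ P.card_dvd_index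
  have h1 : Nat.card (Sylow 5 Y) % 5 = 1 :=
    Eq.trans (card_sylow_modEq_one 5 Y) (Nat.mod_eq_of_lt (by norm_num))
  by_cases h6 : Nat.card (Sylow 5 Y) = 1
  · haveI := (Nat.card_eq_one_iff_unique.1 h6).1
    exact Subsingleton.elim P R
  exfalso
  have hle := Nat.le_of_dvd (Nat.pos_of_ne_zero fun h0 => by
    rw [h0, mul_zero] at hm; exact Nat.card_pos.ne' hm) hn
  have hk : Nat.card (Sylow 5 Y) = 6 := by omega
  have hm6' : m = 6 := by
    rw [hk] at hle
    omega
  subst hm6'
  obtain ⟨Z, hZn, hZ⟩ := exists_index_two (m := 75) (show Nat.card Y = 2 * 75 by rw [hm]) (by norm_num)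
  have hZc : Nat.card Z = 75 := by
    have := Z.card_mul_index
    rw [hZ, hm] at this
    omega
  have hleZ : ∀ Q : Sylow 5 Y, (Q : Subgroup Y) ≤ Z := fun Q y hy => by
    rw [← QuotientGroup.eq_one_iff]
    have a1 : (y : Y ⧸ Z) ^ 2 = 1 := by rw [← hZ]; exact pow_card_eq_one' (G := Y ⧸ Z)
    have a2 : (y : Y ⧸ Z) ^ 25 = 1 := by
      have := congrArg Subtype.val (pow_card_eq_one' (x := (⟨y, hy⟩ : (Q : Subgroup Y))))
      rw [hP] at this
      rw [← QuotientGroup.mk_pow, show y ^ 25 = 1 from this, QuotientGroup.mk_one]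
    rw [show (25 : ℕ) = 2 * 12 + 1 from rfl, pow_succ, pow_mul, a1, one_pow, one_mul] at a2
    exact a2
  haveI : Subsingleton (Sylow 5 Z) := by
    refine (Nat.card_eq_one_iff_unique.1 ?_).1
    obtain ⟨Q⟩ : Nonempty (Sylow 5 Z) := inferInstance
    have hQ : Nat.card (Q : Subgroup Z) = 25 :=
      CfsgLib.SmallSimple.card_sylow_eq Q (k := 2) (m := 3) (by rw [hZc]; norm_num) (by norm_num)
    have b1 : (Q : Subgroup Z).index = 3 := by
      have := (Q : Subgroup Z).card_mul_index
      rw [hQ, hZc] at this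
      omega
    have b2 := b1 ▸ Q.card_dvd_index
    have b3 : Nat.card (Sylow 5 Z) % 5 = 1 :=
      Eq.trans (card_sylow_modEq_one 5 Z) (Nat.mod_eq_of_lt (by norm_num))
    have b4 := Nat.le_of_dvd (by norm_num) b2
    omega
  have heq : P = R := by
    have h := congrArg (fun Q : Sylow 5 Z => (Q : Subgroup Z))
      (Subsingleton.elim (P.subtype (hleZ P)) (R.subtype (hleZ R)))
    simp only [Sylow.coe_subtype, subgroupOf_inj, inf_eq_left.2 (hleZ P), inf_eq_left.2 (hleZ R)] at h
    exact Sylow.ext h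
  have hall : ∀ Q Q' : Sylow 5 Y, Q = Q' := fun Q Q' => by
    have h := congrArg (fun U : Sylow 5 Z => (U : Subgroup Z))
      (Subsingleton.elim (Q.subtype (hleZ Q)) (Q'.subtype (hleZ Q')))
    simp only [Sylow.coe_subtype, subgroupOf_inj, inf_eq_left.2 (hleZ Q), inf_eq_left.2 (hleZ Q')] at h
    exact Sylow.ext h
  haveI : Subsingleton (Sylow 5 Y) := ⟨hall⟩
  rw [Nat.card_of_subsingleton P] at hk
  omega

variable {G : Type*} [Group G] [Finite G]

/-- Two different Sylow subgroups do not lie in such a subgroup. -/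
theorem false_of_sylow_five_le {Y : Subgroup G} (h : Nat.card Y ∣ 150 ∨ Nat.card Y ∣ 100) {P R : Sylow 5 G}
    (hP : Nat.card (P : Subgroup G) = 25) (hPY : (P : Subgroup G) ≤ Y) (hRY : (R : Subgroup G) ≤ Y)
    (hne : P ≠ R) : False := by
  have h := congrArg (fun Q : Sylow 5 Y => (Q : Subgroup Y))
    (sylow_five_subsingleton h (hP ▸ Subgroup.card_dvd_of_le hPY) (P.subtype hPY) (R.subtype hRY))
  simp only [Sylow.coe_subtype, subgroupOf_inj, inf_eq_left.2 hPY, inf_eq_left.2 hRY] at h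
  exact hne (Sylow.ext h)

variable [IsSimpleGroup G]

theorem false_of_eighteen_hundred (hn : Nat.card G = 1800) : False := by
  haveI : Fact (Nat.Prime 5) := ⟨by norm_num⟩
  have hm : (1800 : ℕ) = 5 ^ (1 + 1) * 72 := by norm_num
  obtain ⟨hP, hdvd, h1, h2, -⟩ := sylow_data (G := G) (p := 5) hn hm (by norm_num) (by norm_num) (by norm_num)
  have hk := mem_count (L := [6, 36]) (by decide +kernel) (by norm_num) hdvd h1 h2
  simp only [List.mem_cons, List.not_mem_nil, or_false] at hk
  rcases hk with hk | hk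
  · exact false_of_count hn hm (by norm_num) (by norm_num) (by norm_num) hk (by decide +kernel)
  obtain ⟨P, R, D, k, d, i, hmem, hne, -, -, hPX, hRX, hX, -⟩ :=
    exists_normalizer (p := 5) hn hm (by norm_num) one_ne_zero (by norm_num)
      (by rw [hk]; norm_num) (b := 2) (by rw [hk]) (L := [(6, 1)]) (by decide +kernel)
  simp only [List.mem_singleton, Prod.mk.injEq] at hmem
  obtain ⟨rfl, rfl⟩ := hmem
  exact false_of_sylow_five_le (Or.inl (by rw [hX]; norm_num)) (hP P) hPX hRX hne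

theorem false_of_thirty_six_hundred (hG : ¬ IsMulCommutative G) (hn : Nat.card G = 3600) : False := by
  haveI : Fact (Nat.Prime 5) := ⟨by norm_num⟩
  have hm : (3600 : ℕ) = 5 ^ (1 + 1) * 144 := by norm_num
  obtain ⟨hP, hdvd, h1, h2, hN⟩ := sylow_data (G := G) (p := 5) hn hm (by norm_num) (by norm_num) (by norm_num)
  have hk := mem_count (L := [6, 16, 36]) (by decide +kernel) (by norm_num) hdvd h1 h2
  simp only [List.mem_cons, List.not_mem_nil, or_false] at hk
  rcases hk with hk | hk | hk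
  · exact false_of_count hn hm (by norm_num) (by norm_num) (by norm_num) hk (by decide +kernel)
  · obtain ⟨P, R, D, k, d, i, hmem, hne, -, -, hPX, hRX, hX, -⟩ :=
      exists_normalizer (p := 5) hn hm (by norm_num) one_ne_zero (by norm_num)
        (by rw [hk]; norm_num) (b := 9) (by rw [hk]) (L := [(6, 1)]) (by decide +kernel)
    simp only [List.mem_singleton, Prod.mk.injEq] at hmem
    obtain ⟨rfl, rfl⟩ := hmem
    exact false_of_sylow_five_le (Or.inl (by rw [hX]; norm_num)) (hP P) hPX hRX hne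
  obtain ⟨P, R, D, k, d, i, hmem, hne, hD, hDP, hPX, hRX, hX, ha, -, -, hNP⟩ :=
    exists_normalizer (p := 5) hn hm (by norm_num) one_ne_zero (by norm_num)
      (by rw [hk]; norm_num) (b := 4) (by rw [hk]) (L := [(6, 1), (6, 2)]) (by decide +kernel)
  simp only [List.mem_cons, List.not_mem_nil, or_false, Prod.mk.injEq] at hmem
  rcases hmem with ⟨rfl, rfl⟩ | ⟨rfl, rfl⟩
  · exact false_of_sylow_five_le (Or.inl (by rw [hX]; norm_num)) (hP P) hPX hRX hne
  set X := normalizer (D : Set G)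
  set N := normalizer ((P : Subgroup G) : Set G)
  have hcomm : ∀ Q : Sylow 5 G, ∀ a ∈ (Q : Subgroup G), ∀ b ∈ (Q : Subgroup G), a * b = b * a :=
    fun Q a ha b hb => congrArg Subtype.val
      ((IsPGroup.isMulCommutative_of_card_eq_prime_sq (hP Q)).is_comm.comm (⟨a, ha⟩ : (Q : Subgroup G)) ⟨b, hb⟩)
  -- `D` lies in both Sylow subgroups
  have hDR : D ≤ (R : Subgroup G) := fun y hy => by
    have hy5 : y ^ 5 ^ 1 = 1 := by
      have := congrArg Subtype.val (pow_card_eq_one' (x := (⟨y, hy⟩ : D)))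
      rw [hD] at this
      exact this
    have hDp : IsPGroup 5 D := IsPGroup.of_card hD
    have hsup : IsPGroup 5 ((R : Subgroup G) ⊔ D : Subgroup G) :=
      R.2.to_sup_of_normal_right' hDp hRX
    exact (R.3 hsup le_sup_left) ▸ mem_sup_right hy
  set C := X ⊓ centralizer (D : Set G) with hCdef
  have hCX : C = X := by
    refine eq_of_le_of_card_ge inf_le_left ?_
    by_contra hlt
    rw [not_le, hX] at hlt
    have hPC : (P : Subgroup G) ≤ C := le_inf hPX fun a ha =>
      mem_centralizer_iff.2 fun z hz => hcomm P z (hDP hz) a ha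
    have hRC : (R : Subgroup G) ≤ C := le_inf hRX fun a ha =>
      mem_centralizer_iff.2 fun z hz => hcomm R z (hDR hz) a ha
    obtain ⟨m, hm'⟩ := hP P ▸ Subgroup.card_dvd_of_le hPC
    have h300 : Nat.card C ∣ 300 := by
      have := Subgroup.card_dvd_of_le (inf_le_left : C ≤ X)
      rwa [hX] at this
    rw [hm'] at h300 hlt
    have hm12 : m ∣ 12 := Nat.dvd_of_mul_dvd_mul_left (by norm_num : 0 < 25) (by norm_num at h300 ⊢; exact h300)
    have hcases : m ∣ 6 ∨ m ∣ 4 := by
      have hlt' : m < 12 := by norm_num at hlt; omega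
      interval_cases m <;> simp_all
    refine false_of_sylow_five_le (Y := C) ?_ (hP P) hPC hRC hne
    rw [hm']
    rcases hcases with h | h
    · exact Or.inl (Nat.mul_dvd_mul_left 25 h)
    · exact Or.inr (Nat.mul_dvd_mul_left 25 h)
  have hfix : ∀ b ∈ X, ∀ e ∈ D, b * e = e * b := fun b hb e he => by
    rw [← hCX] at hb
    exact (mem_centralizer_iff.1 (mem_inf.1 hb).2 e he).symm
  set A := (X ⊓ N).subgroupOf N
  have hA : A.index = 2 := by
    have h := A.card_mul_index
    rw [Nat.card_congr (subgroupOfEquivOfLe (inf_le_right : X ⊓ N ≤ N)).toEquiv, ha, hNP] at h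
    norm_num at h
    omega
  haveI : A.Normal := normal_of_index_eq_two hA
  obtain ⟨a, haN, haX⟩ : ∃ a ∈ N, a ∉ X := by
    by_contra hall
    push Not at hall
    have : A = ⊤ := eq_top_iff.2 fun b _ => mem_subgroupOf.2 ⟨hall b b.2, b.2⟩
    rw [this, index_top] at hA
    omega
  obtain ⟨e, he⟩ := exists_prime_orderOf_dvd_card' (G := D) 5 (by rw [hD]; norm_num)
  have he1 : (e : G) ≠ 1 := fun h => by
    rw [← Subgroup.orderOf_coe, h, orderOf_one] at he
    omega
  set x : G := (e : G) * (a * e * a⁻¹)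
  have hxP : x ∈ (P : Subgroup G) := mul_mem (hDP e.2) ((mem_normalizer_iff.1 haN _).1 (hDP e.2))
  have hx1 : x ≠ 1 := fun h => haX (by
    have h' : a * e * a⁻¹ = (e : G)⁻¹ := eq_inv_of_mul_eq_one_right h
    have hDz : D = zpowers (e : G) := (eq_of_le_of_card_ge (zpowers_le.2 e.2) (by
      rw [hD, Nat.card_zpowers, Subgroup.orderOf_coe, he]; norm_num)).symm
    refine mem_normalizer_iff_map_conj_eq.2 ?_
    rw [hDz, MonoidHom.map_zpowers]
    show zpowers (a * (e : G) * a⁻¹) = zpowers (e : G)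
    rw [h', zpowers_inv])
  have hmove : ∀ b ∈ X ⊓ N, b * (a * e * a⁻¹) = a * e * a⁻¹ * b := fun b hb => by
    have hmem : (⟨a, haN⟩ : N)⁻¹ * ⟨b, (mem_inf.1 hb).2⟩ * (⟨a, haN⟩ : N)⁻¹⁻¹ ∈ A :=
      ‹A.Normal›.conj_mem _ (mem_subgroupOf.2 hb) _
    rw [inv_inv] at hmem
    have h1 : a⁻¹ * b * a ∈ X := (mem_inf.1 (mem_subgroupOf.1 hmem)).1
    have h2 := hfix _ h1 e e.2
    calc b * (a * e * a⁻¹) = a * ((a⁻¹ * b * a) * e) * a⁻¹ := by group
      _ = a * (e * (a⁻¹ * b * a)) * a⁻¹ := by rw [h2]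
      _ = a * e * a⁻¹ * b := by group
  have hcent : ∀ b ∈ N, b * x * b⁻¹ = x := by
    have hX' : ∀ b ∈ X ⊓ N, b * x * b⁻¹ = x := fun b hb => by
      rw [mul_inv_eq_iff_eq_mul]
      show b * ((e : G) * (a * e * a⁻¹)) = (e : G) * (a * e * a⁻¹) * b
      rw [← mul_assoc, hfix b (mem_inf.1 hb).1 e e.2, mul_assoc, hmove b hb]
      group
    have haa : a * a ∈ X := by
      have := A.sq_mem_of_index_two hA (⟨a, haN⟩ : N)
      rw [sq] at this
      exact (mem_inf.1 (mem_subgroupOf.1 this)).1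
    have hax : a * x * a⁻¹ = x := by
      have h1 := hfix _ haa e e.2
      calc a * ((e : G) * (a * e * a⁻¹)) * a⁻¹ = (a * e * a⁻¹) * ((a * a) * e * (a * a)⁻¹) := by group
        _ = (a * e * a⁻¹) * e := by rw [h1, mul_inv_cancel_right]
        _ = (e : G) * (a * e * a⁻¹) := hcomm P _ ((mem_normalizer_iff.1 haN _).1 (hDP e.2)) _ (hDP e.2)
    intro b hb
    by_cases hbX : b ∈ X
    · exact hX' b ⟨hbX, hb⟩
    have hab : a⁻¹ * b ∈ X ⊓ N := by
      refine mem_subgroupOf.1 (show (⟨a, haN⟩ : N)⁻¹ * ⟨b, hb⟩ ∈ A from ?_)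
      rw [mul_mem_iff_of_index_two hA, inv_mem_iff]
      exact iff_of_false (fun h => haX (mem_inf.1 (mem_subgroupOf.1 h)).1)
        (fun h => hbX (mem_inf.1 (mem_subgroupOf.1 h)).1)
    calc b * x * b⁻¹ = a * ((a⁻¹ * b) * x * (a⁻¹ * b)⁻¹) * a⁻¹ := by group
      _ = x := by rw [hX' _ hab, hax]
  have h := pow_index_eq_one hG (P : Subgroup G) (hcomm P) x fun j g hg => by
    have hcP : ∀ y ∈ (P : Subgroup G), y ∈ centralizer ((P : Subgroup G) : Set G) := fun y hy =>
      mem_centralizer_iff.2 fun z hz => hcomm P z hz y hy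
    obtain ⟨b, hb, hbe⟩ := P.conj_eq_normalizer_conj_of_mem_centralizer (x ^ j) g
      (hcP _ (pow_mem hxP j)) (hcP _ hg)
    rw [hbe]
    have := hcent b⁻¹ (N.inv_mem hb)
    rw [inv_inv] at this
    calc b⁻¹ * x ^ j * b = (b⁻¹ * x * b⁻¹⁻¹) ^ j := by rw [conj_pow, inv_inv]
      _ = x ^ j := by rw [inv_inv, this]
  have hidx : (P : Subgroup G).index = 144 := by
    have h := (P : Subgroup G).card_mul_index
    rw [hP, hn] at h
    omega
  have h25 : x ^ 25 = 1 := by
    have := congrArg Subtype.val (pow_card_eq_one' (x := (⟨x, hxP⟩ : (P : Subgroup G))))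
    rw [hP] at this
    exact this
  rw [hidx] at h
  exact hx1 (by
    have := pow_gcd_eq_one.mpr ⟨h, h25⟩
    rwa [show Nat.gcd 144 25 = 1 from rfl, pow_one] at this)

end CfsgLib.ThirtySixForty
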