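import Cfsg.Agent.SmallSimple.SixThousand.HandA

/-!
# The order 3120 with a centraliser of order 39

An element of order 3 commuting with a generator `g` of a Sylow 13-subgroup fixes one conjugate only.
If an involution of the normaliser inverts both, it fixes at most two conjugates, against parity.
-/

set_option autoImplicit false
set_option linter.style.haveILetI false

namespace CfsgLib.ThirtySixForty

open Subgroup MulAction CfsgLib.SylowCheck CfsgLib.SixThousand CfsgLib.FixedPoints CfsgLib.FiftyForty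

variable {G : Type*} [Group G] [Finite G] [IsSimpleGroup G]

theorem false_of_thirty_one_twenty' (hG : ¬ IsMulCommutative G) (hn : Nat.card G = 3120)
    (hr : Real G (13, 40, 3)) : False := by
  classical
  haveI : Fact (Nat.Prime 13) := ⟨by norm_num⟩
  haveI : Fact (Nat.Prime 3) := ⟨by norm_num⟩
  obtain ⟨g, -, hsq, hg, hC, hN, hk⟩ := exists_generator hr hn (m := 78) rfl
  obtain ⟨r, hr3, hgr⟩ := exists_commuting (g := g) (q := 3) (hC ▸ dvd_mul_left 3 13)
  set N := normalizer ((zpowers g : Subgroup G) : Set G)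
  set C := centralizer ({g} : Set G)
  have hrC : r ∈ C := mem_centralizer_singleton_iff.2 hgr.eq
  have hrN : r ∈ N := centralizer_le g hrC
  have hr3' : r ^ 3 = 1 := by rw [← hr3, pow_orderOf_eq_one]
  have hg' : g ^ 13 = 1 := by rw [← hg, pow_orderOf_eq_one]
  set F := Nat.card {c : G ⧸ N // r • c = c} with hFdef
  have h1 : F % 13 = 1 := card_fixed_mod hsq hg le_rfl hgr
  have h2 : F % 3 = 40 % 3 := hk ▸ card_fixed_modEq hr3' _
  have h3 : F < 40 := by
    refine lt_of_le_of_ne (hk ▸ Finite.card_subtype_le _) fun he => ?_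
    have h := eq_one_of_fixed (fun h => by rw [← index_eq_card, h, index_top] at hk; omega) (hk.symm ▸ he)
    rw [h, orderOf_one] at hr3
    omega
  have hF : F = 1 := by omega
  -- an involution of the normaliser inverting `g`
  have hhC : ∃ h ∈ N, h ∉ C := by
    by_contra hall
    push Not at hall
    have := card_le_of_le (fun x hx => hall x hx : N ≤ C)
    omega
  set z : G := r * g with hzdef
  have hz : orderOf z = 39 := by
    rw [hzdef, hgr.orderOf_mul_eq_mul_orderOf_of_coprime (by rw [hr3, hg]; norm_num), hr3, hg]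
  have hzC : zpowers z = C := eq_of_le_of_card_ge
    (zpowers_le.2 (C.mul_mem hrC (mem_centralizer_singleton_iff.2 rfl)))
    (by rw [hC, Nat.card_zpowers, hz])
  obtain ⟨y, hy, hyN, hyC⟩ : ∃ y : G, orderOf y = 2 ∧ y ∈ N ∧ y ∉ C := by
    haveI : Fact (Nat.Prime 2) := ⟨Nat.prime_two⟩
    obtain ⟨y, hy⟩ := exists_prime_orderOf_dvd_card' (G := N) 2 (by rw [hN]; norm_num)
    refine ⟨y, (Subgroup.orderOf_coe y).trans hy, y.2, fun hyC => ?_⟩
    have := Subgroup.orderOf_dvd_natCard C hyC
    rw [hC, Subgroup.orderOf_coe, hy] at this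
    norm_num at this
  have hy2 : y * y = 1 := by rw [← sq, ← hy, pow_orderOf_eq_one]
  have hyinv : y * g * y⁻¹ = g⁻¹ := by
    obtain ⟨i, hi⟩ := (mem_zpowers_iff_mem_range_orderOf).mp
      ((mem_normalizer_iff.1 hyN g).1 (mem_zpowers g)) |> Finset.mem_image.mp
    obtain ⟨hilt, hi⟩ := hi
    rw [Finset.mem_range, hg] at hilt
    have h1 : g ^ (i * i) = g ^ 1 := by
      rw [pow_one, pow_mul, hi, conj_pow, hi, show y * (y * g * y⁻¹) * y⁻¹ = (y * y) * g * (y * y)⁻¹ by group,
        hy2, one_mul, inv_one, mul_one]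
    rw [pow_inj_mod, hg] at h1
    have : i = 1 ∨ i = 12 := by interval_cases i <;> omega
    rcases this with rfl | rfl
    · rw [pow_one] at hi
      exact absurd (mem_centralizer_singleton_iff.2 (mul_inv_eq_iff_eq_mul.1 hi.symm)) hyC
    · rw [← hi, eq_inv_iff_mul_eq_one, ← pow_succ, hg']
  have hcount := fixed_mul_card r N
  rw [← hFdef, hF, hN, one_mul] at hcount
  have hm := one_le_class hrN
  have hCr : C ≤ centralizer ({r} : Set G) := by
    rw [← hzC, zpowers_le, mem_centralizer_singleton_iff]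
    exact ((Commute.refl r).mul_left hgr.symm).eq
  by_cases hyr : Commute y r
  · -- `r` is alone in its class within the normaliser
    have hlt : C < centralizer ({r} : Set G) := SetLike.lt_iff_le_and_exists.2
      ⟨hCr, y, mem_centralizer_singleton_iff.2 hyr.eq, hyC⟩
    have hdvd : 39 ∣ Nat.card (centralizer ({r} : Set G)) := by
      have := card_dvd_of_le hCr
      rwa [hC] at this
    have hne : Nat.card (centralizer ({r} : Set G)) ≠ 39 := fun h => by
      have := eq_of_le_of_card_ge hCr (by rw [h, hC])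
      exact hlt.ne this
    obtain ⟨j, hj⟩ := hdvd
    have hone : Nat.card {y : G // IsConj r y ∧ y ∈ N} = 1 := by
      have hj2 : 2 ≤ j := by
        have := Nat.card_pos (α := centralizer ({r} : Set G))
        omega
      by_contra h
      have := Nat.mul_le_mul (show 2 ≤ Nat.card {y : G // IsConj r y ∧ y ∈ N} by omega)
        (show 78 ≤ Nat.card (centralizer ({r} : Set G)) by omega)
      omega
    haveI : Subsingleton {y : G // IsConj r y ∧ y ∈ N} := (Nat.card_eq_one_iff_unique.1 hone).1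
    have huniq : ∀ a : G, a⁻¹ * r * a ∈ zpowers r → a⁻¹ * r * a = r := fun a ha =>
      congrArg Subtype.val (Subsingleton.elim
        (⟨_, isConj_iff.2 ⟨a⁻¹, by rw [inv_inv]⟩, (zpowers_le.2 hrN : zpowers r ≤ N) ha⟩ :
          {y : G // IsConj r y ∧ y ∈ N}) ⟨r, IsConj.refl r, hrN⟩)
    have hab : ∀ a ∈ zpowers r, ∀ b ∈ zpowers r, a * b = b * a := by
      rintro _ ⟨i, rfl⟩ _ ⟨j, rfl⟩
      exact (Commute.zpow_zpow_self r i j).eq
    have h := pow_index_eq_one hG (zpowers r) hab r fun k a hka => by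
      rcases (by omega : k % 3 = 0 ∨ k % 3 = 1 ∨ k % 3 = 2) with h | h | h
      · rw [← pow_mod_orderOf, hr3, h, pow_zero, mul_one, inv_mul_cancel]
      · rw [← pow_mod_orderOf, hr3, h, pow_one] at hka ⊢
        exact huniq a hka
      · rw [← pow_mod_orderOf, hr3, h] at hka ⊢
        have he : a⁻¹ * r ^ 2 * a = (a⁻¹ * r * a)⁻¹ := by
          rw [eq_inv_iff_mul_eq_one, show a⁻¹ * r ^ 2 * a * (a⁻¹ * r * a) = a⁻¹ * r ^ 3 * a by group, hr3', mul_one,
            inv_mul_cancel]
        rw [he, inv_mem_iff] at hka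
        rw [he, huniq a hka, eq_comm, eq_inv_iff_mul_eq_one, ← pow_succ, hr3']
    have hidx : (zpowers r).index = 1040 := by
      have h := (zpowers r).card_mul_index
      rw [Nat.card_zpowers, hr3, hn] at h
      omega
    rw [hidx, ← pow_mod_orderOf, hr3, show 1040 % 3 = 2 from rfl] at h
    have h' := orderOf_dvd_of_pow_eq_one h
    rw [hr3] at h'
    norm_num at h'
  -- `y` inverts `z`
  have hrinv : y * r * y⁻¹ = r⁻¹ := by
    have hmem : y * r * y⁻¹ ∈ C := by
      rw [mem_centralizer_singleton_iff]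
      calc y * r * y⁻¹ * g = y * (r * (y⁻¹ * g * y)) * y⁻¹ := by group
        _ = y * ((y⁻¹ * g * y) * r) * y⁻¹ := by
          rw [show y⁻¹ * g * y = g⁻¹ by rw [← hyinv, inv_eq_of_mul_eq_one_right hy2], hgr.inv_right.eq]
        _ = g * (y * r * y⁻¹) := by group
    rw [← hzC] at hmem
    obtain ⟨i, hi⟩ := (mem_zpowers_iff_mem_range_orderOf).mp hmem |> Finset.mem_image.mp
    obtain ⟨hilt, hi⟩ := hi
    rw [Finset.mem_range, hz] at hilt
    have h1 : z ^ (i * 3) = 1 := by
      rw [pow_mul, hi, conj_pow, hr3', mul_one, mul_inv_cancel]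
    have h39 := orderOf_dvd_of_pow_eq_one h1
    rw [hz] at h39
    have hi' : i = 0 ∨ i = 13 ∨ i = 26 := by omega
    have hzi : z ^ i = r ^ i := by
      rw [hzdef, hgr.mul_pow]
      have : g ^ i = 1 := by
        rcases hi' with rfl | rfl | rfl
        · exact pow_zero g
        · exact hg'
        · rw [show 26 = 13 * 2 from rfl, pow_mul, hg', one_pow]
      rw [this, mul_one]
    rw [hzi, ← pow_mod_orderOf, hr3] at hi
    rcases hi' with rfl | rfl | rfl
    · rw [show 0 % 3 = 0 from rfl, pow_zero, eq_comm, mul_inv_eq_one] at hi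
      have : r = 1 := mul_left_cancel (hi.trans (mul_one y).symm)
      rw [this, orderOf_one] at hr3
      omega
    · rw [show 13 % 3 = 1 from rfl, pow_one] at hi
      exact absurd (mul_inv_eq_iff_eq_mul.1 hi.symm) hyr
    · rw [show 26 % 3 = 2 from rfl] at hi
      rw [← hi, eq_inv_iff_mul_eq_one, ← pow_succ, hr3']
  have hzinv : y * z * y⁻¹ = z⁻¹ := by
    rw [hzdef, show y * (r * g) * y⁻¹ = (y * r * y⁻¹) * (y * g * y⁻¹) by group, hrinv, hyinv,
      mul_inv_rev, hgr.inv_inv.eq]
  -- the other conjugates form a regular orbit of `z`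
  set o : G ⧸ N := ((1 : G) : G ⧸ N) with hodef
  have hfix : ∀ a ∈ N, a • o = o := fun a ha => by
    rw [hodef, Quotient.smul_coe, QuotientGroup.eq, smul_eq_mul, mul_one, mul_one, N.inv_mem_iff]
    exact ha
  haveI : Subsingleton {c : G ⧸ N // r • c = c} := (Nat.card_eq_one_iff_unique.1 hF).1
  have hreg : ∀ c : G ⧸ N, c ≠ o → ∀ d : ℕ, z ^ d • c = c → 39 ∣ d := by
    intro c hc d hd
    have hsmul : ∀ m : ℕ, (z ^ d) ^ m • c = c := fun m => by
      induction m with
      | zero => simp
      | succ m ih => rw [pow_succ, mul_smul, hd, ih]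
    have h13 : 13 ∣ d := by
      by_contra h
      obtain ⟨m, hm⟩ : ∃ m, (d * 3 * m) % 13 = 1 := by
        have h0 : d % 13 ≠ 0 := fun h0 => h (Nat.dvd_of_mod_eq_zero h0)
        have := Nat.mod_lt d (show 13 > 0 by norm_num)
        have e : ∀ e : Fin 13, e.1 ≠ 0 → ∃ m : Fin 13, (e.1 * 3 * m.1) % 13 = 1 := by decide +kernel
        obtain ⟨m, hm⟩ := e ⟨d % 13, this⟩ h0
        refine ⟨m.1, ?_⟩
        rw [Nat.mul_mod, Nat.mul_mod d 3]
        simpa [Nat.mul_mod] using hm
      have h' := hsmul (3 * m)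
      rw [← pow_mul, hzdef, hgr.mul_pow, show d * (3 * m) = 3 * (d * m) by ring, pow_mul r, hr3', one_pow,
        one_mul, show 3 * (d * m) = d * 3 * m by ring, ← pow_mod_orderOf, hg, hm, pow_one] at h'
      exact hc (eq_base_of_fixed hsq hg le_rfl h')
    have h3 : 3 ∣ d := by
      by_contra h
      obtain ⟨m, hm⟩ : ∃ m, (d * m) % 3 = 1 := by
        rcases (by omega : d % 3 = 1 ∨ d % 3 = 2) with h' | h'
        · exact ⟨1, by omega⟩
        · exact ⟨2, by omega⟩
      have h' := hsmul m
      rw [← pow_mul, hzdef, hgr.mul_pow, ← pow_mod_orderOf r, hr3, hm, pow_one,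
        (by
          obtain ⟨e, rfl⟩ := h13
          rw [mul_assoc, pow_mul, hg', one_pow] : g ^ (d * m) = 1), mul_one] at h'
      exact hc (congrArg Subtype.val (Subsingleton.elim (⟨c, h'⟩ : {c : G ⧸ N // r • c = c}) ⟨o, hfix r hrN⟩))
    omega
  obtain ⟨j, hj⟩ := involution_parity hG (v := y) (by rw [sq, hy2]) (G ⧸ N)
  rw [hk] at hj
  have hF4 : 3 ≤ Nat.card {c : G ⧸ N // y • c = c} := by
    haveI : Nonempty {c : G ⧸ N // y • c = c} := ⟨⟨o, hfix y hyN⟩⟩
    have := Nat.card_pos (α := {c : G ⧸ N // y • c = c})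
    omega
  obtain ⟨c, hyc, hco⟩ : ∃ c : G ⧸ N, y • c = c ∧ c ≠ o := by
    by_contra hall
    push Not at hall
    haveI : Subsingleton {c : G ⧸ N // y • c = c} :=
      ⟨fun a b => Subtype.ext ((hall a a.2).trans (hall b b.2).symm)⟩
    have := Finite.card_le_one_iff_subsingleton.2 (inferInstance : Subsingleton {c : G ⧸ N // y • c = c})
    omega
  let f : Fin 39 → {c : G ⧸ N // c ≠ o} := fun i => ⟨z ^ i.1 • c, fun h => hco (by
    have := congrArg ((z ^ i.1)⁻¹ • ·) h
    simp only [inv_smul_smul] at this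
    rw [this, hfix _ (N.inv_mem (N.pow_mem (centralizer_le g (show z ∈ C from hzC ▸ mem_zpowers z)) _))])⟩
  have hinj : Function.Injective f := by
    intro i i' h
    have h' : z ^ i.1 • c = z ^ i'.1 • c := congrArg Subtype.val h
    have key : ∀ a b : Fin 39, a.1 ≤ b.1 → z ^ a.1 • c = z ^ b.1 • c → a = b := fun a b hab e => by
      have h39 : 39 ∣ b.1 - a.1 := hreg c hco _ (smul_left_cancel (z ^ a.1) (by
        rw [← mul_smul, ← pow_add, Nat.add_sub_cancel' hab]
        exact e.symm))
      have := b.2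
      exact Fin.ext (by omega)
    rcases le_total i.1 i'.1 with hle | hle
    · exact key i i' hle h'
    · exact (key i' i hle h'.symm).symm
  have hcard : Nat.card {c : G ⧸ N // c ≠ o} = 39 := by
    haveI := Fintype.ofFinite (G ⧸ N)
    rw [Nat.card_eq_fintype_card, Fintype.card_subtype_compl, Fintype.card_subtype_eq,
      ← Nat.card_eq_fintype_card, hk]
  have hsurj := ((Nat.bijective_iff_injective_and_card f).2 ⟨hinj, by rw [Nat.card_fin, hcard]⟩).2
  have hle : Nat.card {d : G ⧸ N // y • d = d} ≤ 2 := by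
    refine le_trans (Nat.card_le_card_of_injective (fun d => decide (d.1 = o)) ?_) (by simp)
    intro d d' h
    simp only [decide_eq_decide] at h
    by_cases hd : d.1 = o
    · exact Subtype.ext (hd.trans (h.1 hd).symm)
    have hc' : ∀ e : G ⧸ N, e ≠ o → y • e = e → e = c := fun e he hye => by
      obtain ⟨i, hi⟩ := hsurj ⟨e, he⟩
      have hi' : z ^ i.1 • c = e := congrArg Subtype.val hi
      have h1 : (z ^ i.1)⁻¹ • c = z ^ i.1 • c := by
        calc (z ^ i.1)⁻¹ • c = (y * z ^ i.1 * y⁻¹) • c := by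
              rw [← conj_pow, hzinv, inv_pow]
          _ = y • (z ^ i.1 • (y⁻¹ • c)) := by rw [mul_smul, mul_smul]
          _ = z ^ i.1 • c := by rw [inv_smul_eq_iff.2 hyc.symm, hi', hye]
      have h2 : z ^ (2 * i.1) • c = c := by
        rw [two_mul, pow_add, mul_smul, ← h1, smul_inv_smul]
      have := hreg c hco _ h2
      have := i.2
      rw [← hi', (by omega : i.1 = 0), pow_zero, one_smul]
    exact Subtype.ext ((hc' _ hd d.2).trans (hc' _ (fun h' => hd (h.2 h')) d'.2).symm)
  omega

end CfsgLib.ThirtySixForty
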