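import Cfsg.Agent.SmallSimple.ThirtySixForty.Easy
import Cfsg.Agent.SmallSimple.ThirtySixForty.Invol
import Cfsg.Agent.SmallSimple.ThirtySixForty.Five
import Cfsg.Agent.SmallSimple.ThirtySixForty.SylowFive
import Cfsg.Agent.SmallSimple.ThirtySixForty.Thirteen
import Cfsg.Agent.SmallSimple.ThirtySixForty.Fifteen
import Cfsg.Agent.SmallSimple.SixThousand.Main

/-!
# The simple orders between 1093 and 3640
-/

set_option autoImplicit false
set_option linter.style.haveILetI false

namespace CfsgLib.ThirtySixForty

open CfsgLib.SylowCheck CfsgLib.SixThousand CfsgLib.OrderBound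

/-- The orders left to the hand arguments, and the three simple ones. -/
def remaining : List ℕ :=
  [1224, 1512, 1680, 1800, 1960, 1980, 2100, 2160, 2184, 2200, 2448, 2475, 2520, 3120, 3168, 3360, 3420, 3528, 3600]

/-- Every order in a range has a certificate or is left. -/
def coveredFrom (s : ℕ) : ℕ → Bool
  | 0 => true
  | k + 1 => (remaining.contains s || autoB s) && coveredFrom (s + 1) k

theorem covered_of_coveredFrom : ∀ {k s n : ℕ}, coveredFrom s k = true → s ≤ n → n < s + k →
    n ∈ remaining ∨ autoB n = true
  | 0, s, n, _, h1, h2 => by omega
  | k + 1, s, n, h, h1, h2 => by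
    simp only [coveredFrom, Bool.and_eq_true, Bool.or_eq_true, List.contains_eq_mem, decide_eq_true_eq] at h
    rcases Nat.lt_or_ge s n with hlt | hge
    · exact covered_of_coveredFrom h.2 hlt (by omega)
    · exact (show s = n by omega) ▸ h.1

theorem covered0 : coveredFrom 1093 200 = true := by decide +kernel

theorem covered1 : coveredFrom 1293 200 = true := by decide +kernel

theorem covered2 : coveredFrom 1493 200 = true := by decide +kernel

theorem covered3 : coveredFrom 1693 200 = true := by decide +kernel

theorem covered4 : coveredFrom 1893 200 = true := by decide +kernel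

theorem covered5 : coveredFrom 2093 200 = true := by decide +kernel

theorem covered6 : coveredFrom 2293 200 = true := by decide +kernel

theorem covered7 : coveredFrom 2493 200 = true := by decide +kernel

theorem covered8 : coveredFrom 2693 200 = true := by decide +kernel

theorem covered9 : coveredFrom 2893 200 = true := by decide +kernel

theorem covered10 : coveredFrom 3093 200 = true := by decide +kernel

theorem covered11 : coveredFrom 3293 200 = true := by decide +kernel

theorem covered12 : coveredFrom 3493 148 = true := by decide +kernel

/-- Every order in the range. -/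
theorem covered {n : ℕ} (h1 : 1092 < n) (h2 : n ≤ 3640) : n ∈ remaining ∨ autoB n = true := by
  by_cases a0 : n < 1293
  · exact covered_of_coveredFrom covered0 (by omega) a0
  by_cases a1 : n < 1493
  · exact covered_of_coveredFrom covered1 (by omega) a1
  by_cases a2 : n < 1693
  · exact covered_of_coveredFrom covered2 (by omega) a2
  by_cases a3 : n < 1893
  · exact covered_of_coveredFrom covered3 (by omega) a3
  by_cases a4 : n < 2093
  · exact covered_of_coveredFrom covered4 (by omega) a4
  by_cases a5 : n < 2293
  · exact covered_of_coveredFrom covered5 (by omega) a5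
  by_cases a6 : n < 2493
  · exact covered_of_coveredFrom covered6 (by omega) a6
  by_cases a7 : n < 2693
  · exact covered_of_coveredFrom covered7 (by omega) a7
  by_cases a8 : n < 2893
  · exact covered_of_coveredFrom covered8 (by omega) a8
  by_cases a9 : n < 3093
  · exact covered_of_coveredFrom covered9 (by omega) a9
  by_cases a10 : n < 3293
  · exact covered_of_coveredFrom covered10 (by omega) a10
  by_cases a11 : n < 3493
  · exact covered_of_coveredFrom covered11 (by omega) a11
  exact covered_of_coveredFrom covered12 (by omega) (by omega)

variable {G : Type*} [Group G] [Finite G] [IsSimpleGroup G]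

/-- The simple orders between 1093 and 3640. -/
theorem card_mem (hG : ¬ IsMulCommutative G) (h1 : 1092 < Nat.card G) (h2 : Nat.card G ≤ 3640) :
    Nat.card G = 2448 ∨ Nat.card G = 2520 ∨ Nat.card G = 3420 := by
  rcases covered h1 h2 with hrem | hauto
  swap
  · have hm := mem_handled_of_autoB hG rfl (by omega) (by omega) hauto
    simp only [handled, List.mem_cons, List.not_mem_nil, or_false] at hm
    omega
  simp only [remaining, List.mem_cons, List.not_mem_nil, or_false] at hrem
  rcases hrem with h | h | h | h | h | h | h | h | h | h | h | h | h | h | h | h | h | h | h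
  · obtain ⟨x, hx, hr⟩ := exists_datum hG h (allowed := [(17, 18, 1)]) (by decide +kernel)
    rw [List.mem_singleton] at hx
    subst hx
    exact (false_of_twelve_twenty_four hG h hr).elim
  · obtain ⟨x, hx, hr⟩ := exists_datum hG h (allowed := [(7, 36, 1)]) (by decide +kernel)
    rw [List.mem_singleton] at hx
    subst hx
    exact (false_of_fifteen_twelve hG h hr).elim
  · obtain ⟨x, hx, hr⟩ := exists_datum hG h (allowed := [(5, 21, 4)]) (by decide +kernel)
    rw [List.mem_singleton] at hx
    subst hx
    exact (false_of_sixteen_eighty hG h hr).elim
  · exact (false_of_eighteen_hundred h).elim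
  · exact (false_of_nineteen_sixty h).elim
  · obtain ⟨x, hx, hr⟩ := exists_datum hG h (allowed := [(11, 45, 2)]) (by decide +kernel)
    rw [List.mem_singleton] at hx
    subst hx
    exact (false_of_nineteen_eighty hG h hr).elim
  · exact (false_of_twenty_one_hundred h).elim
  · exact (CfsgLib.RealPrime.false_of_twenty_one_sixty hG h).elim
  · obtain ⟨x, hx, hr⟩ := exists_datum hG h (allowed := [(13, 14, 1)]) (by decide +kernel)
    rw [List.mem_singleton] at hx
    subst hx
    exact (false_of_twenty_one_eighty_four hG h hr).elim
  · obtain ⟨x, hx, hr⟩ := exists_datum hG h (allowed := [(11, 100, 1)]) (by decide +kernel)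
    rw [List.mem_singleton] at hx
    subst hx
    exact (false_of_twenty_two_hundred hG h hr).elim
  · exact Or.inl h
  · obtain ⟨x, hx, hr⟩ := exists_datum hG h (allowed := [(11, 45, 1)]) (by decide +kernel)
    rw [List.mem_singleton] at hx
    subst hx
    exact (false_of_twenty_four_seventy_five hG h hr).elim
  · exact Or.inr (Or.inl h)
  · obtain ⟨x, hx, hr⟩ := exists_datum hG h (allowed := [(13, 40, 1), (13, 40, 3)]) (by decide +kernel)
    simp only [List.mem_cons, List.not_mem_nil, or_false] at hx
    rcases hx with rfl | rfl
    · exact (false_of_thirty_one_twenty hG h hr).elim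
    · exact (false_of_thirty_one_twenty' hG h hr).elim
  · obtain ⟨x, hx, hr⟩ := exists_datum hG h (allowed := [(11, 144, 1)]) (by decide +kernel)
    rw [List.mem_singleton] at hx
    subst hx
    exact (false_of_thirty_one_sixty_eight hG h hr).elim
  · obtain ⟨x, hx, hr⟩ := exists_datum hG h (allowed := [(5, 21, 8)]) (by decide +kernel)
    rw [List.mem_singleton] at hx
    subst hx
    exact (false_of_thirty_three_sixty hG h hr).elim
  · exact Or.inr (Or.inr h)
  · exact (false_of_thirty_five_twenty_eight h).elim
  · exact (false_of_thirty_six_hundred hG h).elim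

/-- The orders of the simple groups below 6000. -/
theorem card_mem_of_lt (hG : ¬ IsMulCommutative G) (h : Nat.card G < 6000) :
    Nat.card G ∈ [60, 168, 360, 504, 660, 1092, 2448, 2520, 3420, 4080, 5616] := by
  rcases le_or_gt (Nat.card G) 1092 with h1 | h1
  · have := CfsgLib.OrderBound.card_of_le hG h1
    simp only [List.mem_cons, List.not_mem_nil, or_false] at this ⊢
    omega
  rcases le_or_gt (Nat.card G) 3640 with h2 | h2
  · have := card_mem hG h1 h2
    simp only [List.mem_cons, List.not_mem_nil, or_false]
    omega
  · have := CfsgLib.SixThousand.card_mem hG h2 (by omega)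
    simp only [List.mem_cons, List.not_mem_nil, or_false]
    omega

end CfsgLib.ThirtySixForty
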