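import Cfsg.Agent.SmallSimple.SixThousand.Column
import Cfsg.Agent.SmallSimple.SixThousand.HandB

/-!
# Orders between 1093 and 3640 refuted by a column table or by counting Sylow subgroups
-/

set_option autoImplicit false
set_option linter.style.haveILetI false

namespace CfsgLib.ThirtySixForty

open Subgroup CfsgLib.SylowCheck CfsgLib.SixThousand

variable {G : Type*} [Group G] [Finite G] [IsSimpleGroup G]

theorem false_of_twelve_twenty_four (hG : ¬ IsMulCommutative G) (hn : Nat.card G = 1224)
    (hr : Real G (17, 18, 1)) : False := by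
  haveI : Fact (Nat.Prime 17) := ⟨by norm_num⟩
  exact false_of_column hG (e := 4) (t := 4) (3 : ZMod 17) hn hr (by norm_num) (by norm_num) (by norm_num)
    (by norm_num) (by decide +kernel +revert) (by decide +kernel +revert) (by decide +kernel +revert)
    (by decide +kernel +revert)
    (D := [2, 3, 4, 6, 8, 9, 12, 17, 18, 24, 34])
    (T := [(0, 0), (16, 324), (32, 648), (48, 972), (144, 128), (144, 162), (160, 452), (160, 486), (176, 776), (176, 810), (192, 1100), (192, 1134), (208, 64), (208, 1152), (224, 388), (240, 576), (240, 712), (256, 900), (256, 1036)])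
    (by decide +kernel +revert) (by decide +kernel +revert)

theorem false_of_twenty_one_eighty_four (hG : ¬ IsMulCommutative G) (hn : Nat.card G = 2184)
    (hr : Real G (13, 14, 1)) : False := by
  haveI : Fact (Nat.Prime 13) := ⟨by norm_num⟩
  exact false_of_column hG (e := 12) (t := 1) (2 : ZMod 13) hn hr (by norm_num) (by norm_num) (by norm_num)
    (by norm_num) (by decide +kernel +revert) (by decide +kernel +revert) (by decide +kernel +revert)
    (by decide +kernel +revert)
    (D := [2, 3, 4, 6, 7, 8, 12, 13, 14, 21, 24, 26, 28, 39, 42])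
    (T := [(0, 0), (12, 144), (12, 196), (24, 288), (24, 340), (24, 392), (36, 432), (36, 484), (36, 536), (36, 588), (48, 576), (48, 628), (48, 680), (48, 732), (48, 784), (60, 720), (60, 772), (60, 824), (60, 876), (60, 928), (60, 980), (72, 864), (72, 916), (72, 968), (72, 1020), (72, 1072), (72, 1124), (72, 1176), (84, 1008), (84, 1060), (84, 1112), (84, 1164), (84, 1216), (84, 1268), (84, 1320), (84, 1372), (96, 1152), (96, 1204), (96, 1256), (96, 1308), (96, 1360), (96, 1412), (96, 1464), (96, 1516), (96, 1568), (108, 1296), (108, 1348), (108, 1400), (108, 1452), (108, 1504), (108, 1556), (108, 1608), (108, 1660), (108, 1712), (108, 1764), (120, 1440), (120, 1492), (120, 1544), (120, 1596), (120, 1648), (120, 1700), (120, 1752), (120, 1804), (120, 1856), (120, 1908), (120, 1960), (132, 1584), (132, 1636), (132, 1688), (132, 1740), (132, 1792), (132, 1844), (132, 1896), (132, 1948), (132, 2000), (132, 2052), (132, 2104), (132, 2156), (144, 1728), (144, 1780), (144, 1832), (144, 1884), (144, 1936), (144, 1988), (144, 2040), (144, 2092), (144, 2144)])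
    (by decide +kernel +revert) (by decide +kernel +revert)

theorem false_of_twenty_two_hundred (hG : ¬ IsMulCommutative G) (hn : Nat.card G = 2200)
    (hr : Real G (11, 100, 1)) : False := by
  haveI : Fact (Nat.Prime 11) := ⟨by norm_num⟩
  exact false_of_column hG (e := 2) (t := 5) (2 : ZMod 11) hn hr (by norm_num) (by norm_num) (by norm_num)
    (by norm_num) (by decide +kernel +revert) (by decide +kernel +revert) (by decide +kernel +revert)
    (by decide +kernel +revert)
    (D := [2, 4, 5, 8, 10, 11, 20, 22, 25, 40, 44])
    (T := [(0, 0), (10, 100), (20, 200), (30, 300), (40, 400), (50, 500), (60, 600), (70, 700), (80, 800), (90, 20), (90, 625), (90, 900), (90, 2000), (100, 120), (100, 725), (100, 1000), (100, 2100)])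
    (by decide +kernel +revert) (by decide +kernel +revert)

theorem false_of_twenty_four_seventy_five (hG : ¬ IsMulCommutative G) (hn : Nat.card G = 2475)
    (hr : Real G (11, 45, 1)) : False := by
  haveI : Fact (Nat.Prime 11) := ⟨by norm_num⟩
  exact false_of_column hG (e := 5) (t := 2) (2 : ZMod 11) hn hr (by norm_num) (by norm_num) (by norm_num)
    (by norm_num) (by decide +kernel +revert) (by decide +kernel +revert) (by decide +kernel +revert)
    (by decide +kernel +revert)
    (D := [3, 5, 9, 11, 15, 25, 33, 45])
    (T := [(0, 0), (10, 2025), (60, 50), (70, 2075), (90, 625), (100, 450)])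
    (by decide +kernel +revert) (by decide +kernel +revert)

theorem false_of_thirty_one_twenty (hG : ¬ IsMulCommutative G) (hn : Nat.card G = 3120)
    (hr : Real G (13, 40, 1)) : False := by
  haveI : Fact (Nat.Prime 13) := ⟨by norm_num⟩
  exact false_of_column hG (e := 6) (t := 2) (2 : ZMod 13) hn hr (by norm_num) (by norm_num) (by norm_num)
    (by norm_num) (by decide +kernel +revert) (by decide +kernel +revert) (by decide +kernel +revert)
    (by decide +kernel +revert)
    (D := [2, 3, 4, 5, 6, 8, 10, 12, 13, 15, 16, 20, 24, 26, 30, 39, 40, 48, 52])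
    (T := [(0, 0), (12, 144), (12, 1600), (24, 288), (24, 1744), (36, 432), (36, 1888), (48, 225), (48, 576), (48, 2032), (60, 369), (60, 720), (60, 1825), (60, 2176), (72, 513), (72, 864), (72, 1969), (72, 2320), (84, 72), (84, 657), (84, 800), (84, 1008), (84, 2113), (84, 2464), (96, 216), (96, 450), (96, 801), (96, 944), (96, 1152), (96, 1672), (96, 2257), (96, 2400), (96, 2608), (108, 256), (108, 360), (108, 594), (108, 945), (108, 1088), (108, 1296), (108, 1816), (108, 2050), (108, 2401), (108, 2544), (108, 2752), (120, 400), (120, 504), (120, 738), (120, 1089), (120, 1232), (120, 1440), (120, 1856), (120, 1960), (120, 2194), (120, 2545), (120, 2688), (120, 2896), (132, 128), (132, 297), (132, 544), (132, 648), (132, 882), (132, 1025), (132, 1233), (132, 1376), (132, 1584), (132, 2000), (132, 2104), (132, 2338), (132, 2689), (132, 2832), (132, 3040), (144, 272), (144, 441), (144, 675), (144, 688), (144, 792), (144, 1026), (144, 1169), (144, 1377), (144, 1520), (144, 1728), (144, 1897), (144, 2144), (144, 2248), (144, 2482), (144, 2625), (144, 2833), (144, 2976)])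
    (by decide +kernel +revert) (by decide +kernel +revert)

theorem false_of_nineteen_sixty (hn : Nat.card G = 1960) : False := by
  haveI : Fact (Nat.Prime 7) := ⟨by norm_num⟩
  have hm : (1960 : ℕ) = 7 ^ 2 * 40 := by norm_num
  obtain ⟨-, hdvd, h1, h2, -⟩ := sylow_data (G := G) (p := 7) hn hm (by norm_num) (by norm_num) (by norm_num)
  have hk := mem_count (L := [8]) (by decide +kernel) (by norm_num) hdvd h1 h2
  simp only [List.mem_singleton] at hk
  exact false_of_count hn hm (by norm_num) (by norm_num) (by norm_num) hk (by decide +kernel)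

theorem false_of_thirty_five_twenty_eight (hn : Nat.card G = 3528) : False := by
  haveI : Fact (Nat.Prime 7) := ⟨by norm_num⟩
  have hm : (3528 : ℕ) = 7 ^ (1 + 1) * 72 := by norm_num
  obtain ⟨-, hdvd, h1, h2, -⟩ := sylow_data (G := G) (p := 7) hn hm (by norm_num) (by norm_num) (by norm_num)
  have hk := mem_count (L := [8, 36]) (by decide +kernel) (by norm_num) hdvd h1 h2
  simp only [List.mem_cons, List.not_mem_nil, or_false] at hk
  rcases hk with hk | hk
  · exact false_of_count hn hm (by norm_num) (by norm_num) (by norm_num) hk (by decide +kernel)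
  obtain ⟨_, _, _, _, _, _, hmem, -⟩ := exists_normalizer (p := 7) hn hm (by norm_num) one_ne_zero (by norm_num)
    (by rw [hk]; norm_num) (b := 2) (by rw [hk]) (L := []) (by decide +kernel)
  simp at hmem

theorem false_of_twenty_one_hundred (hn : Nat.card G = 2100) : False := by
  haveI : Fact (Nat.Prime 5) := ⟨by norm_num⟩
  have hm : (2100 : ℕ) = 5 ^ (1 + 1) * 84 := by norm_num
  obtain ⟨hP, hdvd, h1, h2, hN⟩ := sylow_data (G := G) (p := 5) hn hm (by norm_num) (by norm_num) (by norm_num)
  have hk := mem_count (L := [6, 21]) (by decide +kernel) (by norm_num) hdvd h1 h2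
  simp only [List.mem_cons, List.not_mem_nil, or_false] at hk
  rcases hk with hk | hk
  · exact false_of_count hn hm (by norm_num) (by norm_num) (by norm_num) hk (by decide +kernel)
  obtain ⟨P, R, D, k, d, i, hmem, -, hD, hDP, -, -, hX, ha, hi, hkdi, hNP⟩ :=
    exists_normalizer (p := 5) hn hm (by norm_num) one_ne_zero (by norm_num)
      (by rw [hk]; norm_num) (b := 4) (by rw [hk]) (L := [(6, 1)]) (by decide +kernel)
  simp only [List.mem_singleton, Prod.mk.injEq] at hmem
  obtain ⟨rfl, rfl⟩ := hmem
  have := two_mul_lines_le (hP P) (hD.trans (pow_one 5)) hDP hX ha hi (j := 4) (by rw [hNP]; norm_num) (by norm_num)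
  omega

end CfsgLib.ThirtySixForty
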